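import Cfsg.Agent.Mrg.Omega.Lie.End.Top
import Cfsg.Agent.Mrg.Omega.Lie.LemmaTComp
import Cfsg.Agent.Mrg.Omega.Lie.End.OfLay
import Cfsg.Agent.Mrg.Omega.IIa4.Lay
import Cfsg.Agent.Mrg.Omega.Lie.End.KSys
import Cfsg.Agent.Mrg.Omega.Lie.End.Zero

-- merged: Cfsg.Agent.Mrg.Omega.Lie.End.Up
section

/-!
# The end of NODE LIE: from `H = N(R)/O₂(N(R))` to `G`, and adding the node 0

`up R L` : the preimage in `G` of `L ≤ HQ R`.  `Pre.up`; `Pre.opt` : adding one node to a parabolic system.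
-/

set_option autoImplicit false
set_option linter.unusedSectionVars false

namespace Cfsg.Agent.Omega.Lie.End

open Subgroup Cfsg.Agent.ParSys Cfsg.Agent.Omega.BTwo Cfsg.Agent.Omega.Lie.Quot

universe u

section up

variable {G : Type u} [Group G] {R : Subgroup G}

/-- the preimage in `G` of a subgroup of `N(R)/O₂(N(R))` -/
def up (R : Subgroup G) (L : Subgroup (HQ R)) : Subgroup G :=
  (L.comap (pr R)).map (normalizer (R : Set G)).subtype

variable {L L' : Subgroup (HQ R)}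

theorem mem_up {g : G} : g ∈ up R L ↔ ∃ hg : g ∈ normalizer (R : Set G), pr R ⟨g, hg⟩ ∈ L := by
  constructor
  · rintro ⟨x, hx, rfl⟩
    exact ⟨x.2, hx⟩
  · rintro ⟨hg, h⟩
    exact ⟨⟨g, hg⟩, h, rfl⟩

theorem mem_up_iff {g : G} (hg : g ∈ normalizer (R : Set G)) : g ∈ up R L ↔ pr R ⟨g, hg⟩ ∈ L :=
  mem_up.trans ⟨fun h => h.2, fun h => ⟨hg, h⟩⟩

theorem up_le : up R L ≤ normalizer (R : Set G) := fun _ hg => (mem_up.1 hg).1

theorem up_mono (h : L ≤ L') : up R L ≤ up R L' := fun _ hg => by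
  obtain ⟨h1, h2⟩ := mem_up.1 hg
  exact mem_up.2 ⟨h1, h h2⟩

theorem QQ_le_N : QQ R ≤ normalizer (R : Set G) := by
  rintro _ ⟨x, -, rfl⟩
  exact x.2

theorem QQ_le_up : QQ R ≤ up R L := by
  intro g hg
  have h1 : g ∈ normalizer (R : Set G) := QQ_le_N hg
  refine mem_up.2 ⟨h1, ?_⟩
  rw [(pr_eq_one h1).2 hg]
  exact one_mem _

theorem im_up : im R (up R L) = L := by
  ext x
  obtain ⟨g, hg, rfl⟩ := exists_pr x
  rw [pr_mem_im_iff QQ_le_up, mem_up_iff hg]

/-- `up (im A) = A O₂(N(R))` -/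
theorem mem_up_im {A : Subgroup G} {g : G} : g ∈ up R (im R A) ↔ ∃ a ∈ A, a ∈ normalizer (R : Set G) ∧ a⁻¹ * g ∈ QQ R := by
  constructor
  · intro h
    obtain ⟨hg, h1⟩ := mem_up.1 h
    obtain ⟨a, ha, haA, e⟩ := mem_im.1 h1
    exact ⟨a, haA, ha, (pr_eq_pr ha hg).1 e⟩
  · rintro ⟨a, ha, haN, h⟩
    have hg : g ∈ normalizer (R : Set G) := by
      have := mul_mem haN (QQ_le_N h)
      rwa [mul_inv_cancel_left] at this
    exact mem_up.2 ⟨hg, mem_im.2 ⟨a, haN, ha, (pr_eq_pr haN hg).2 h⟩⟩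

theorem le_up_im {A : Subgroup G} (hA : A ≤ normalizer (R : Set G)) : A ≤ up R (im R A) := fun g hg =>
  mem_up_im.2 ⟨g, hg, hA hg, by rw [inv_mul_cancel]; exact one_mem _⟩

theorem up_sup : up R (L ⊔ L') = up R L ⊔ up R L' := by
  unfold up
  rw [← Subgroup.map_sup]
  congr 1
  exact (comap_sup_eq_of_le_range (pr R) (by rw [MonoidHom.range_eq_top.2 (pr_surjective R)]; exact le_top)
    (by rw [MonoidHom.range_eq_top.2 (pr_surjective R)]; exact le_top)).symm

theorem up_iSup {α : Type*} [Nonempty α] (L : α → Subgroup (HQ R)) : up R (⨆ a, L a) = ⨆ a, up R (L a) := by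
  apply le_antisymm
  · intro g hg
    have hN : (⨆ a, up R (L a)) ≤ normalizer (R : Set G) := iSup_le fun _ => up_le
    obtain ⟨hgN, h1⟩ := mem_up.1 hg
    obtain ⟨a₀⟩ := ‹Nonempty α›
    have hQ : QQ R ≤ ⨆ a, up R (L a) := (QQ_le_up (L := L a₀)).trans (le_iSup (fun a => up R (L a)) a₀)
    have h2 : (⨆ a, L a) ≤ im R (⨆ a, up R (L a)) := iSup_le fun a => by
      rw [← im_up (L := L a)]
      exact im_mono (le_iSup (fun a => up R (L a)) a)
    exact (pr_mem_im_iff hQ hgN).1 (h2 h1)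
  · exact iSup_le fun a => up_mono (le_iSup L a)

theorem up_bot_eq : up R (⊥ : Subgroup (HQ R)) = QQ R := by
  ext g
  rw [mem_up]
  constructor
  · rintro ⟨hg, h⟩
    exact (pr_eq_one hg).1 (mem_bot.1 h)
  · intro h
    exact ⟨QQ_le_N h, mem_bot.2 ((pr_eq_one (QQ_le_N h)).2 h)⟩

theorem ker_pr [Finite G] : IsPGroup 2 (pr R).ker := by
  have : (pr R).ker = pCore 2 ↥(normalizer (R : Set G)) := QuotientGroup.ker_mk' _
  rw [this]
  have hfact : Fact (Nat.Prime 2) := ⟨Nat.prime_two⟩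
  exact Lib.Cores.pCore_isPGroup 2

/-- `up` maps normalisers to normalisers -/
theorem up_norm (h : L ≤ normalizer (L' : Set (HQ R))) : up R L ≤ normalizer (up R L' : Set G) := by
  have key : ∀ g ∈ up R L, ∀ x ∈ up R L', g * x * g⁻¹ ∈ up R L' := by
    intro g hg x hx
    obtain ⟨h1, h2⟩ := mem_up.1 hg
    obtain ⟨h3, h4⟩ := mem_up.1 hx
    exact mem_up.2 ⟨mul_mem (mul_mem h1 h3) (inv_mem h1), (mem_normalizer_iff.mp (h h2) _).mp h4⟩
  intro g hg
  rw [mem_normalizer_iff]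
  intro x
  refine ⟨fun hx => key g hg x hx, fun hx => ?_⟩
  have := key g⁻¹ (inv_mem hg) _ hx
  have e : g⁻¹ * (g * x * g⁻¹) * g⁻¹⁻¹ = x := by group
  rwa [e] at this

theorem Pre.up [Finite G] {I : Type*} {B U : Subgroup (HQ R)} {P : I → Subgroup (HQ R)} {m : I → I → ℕ}
    (D : Pre 2 B U P m) : Pre 2 (End.up R B) (End.up R U) (fun i => End.up R (P i)) m := by
  have hfact : Fact (Nat.Prime 2) := ⟨Nat.prime_two⟩
  have hr : (pr R).range = ⊤ := MonoidHom.range_eq_top.2 (pr_surjective R)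
  have h1 := D.comap (φ := pr R) ker_pr (by rw [hr]; exact le_top) (fun i => by rw [hr]; exact le_top)
  exact h1.map (φ := (normalizer (R : Set G)).subtype) (subtype_injective _)

/-- the kernel of a panel in `G` -/
theorem Qk_up {B P : Subgroup (HQ R)} : Qk (End.up R B) (End.up R P) = End.up R (Qk B P) := by
  have hr : (pr R).range = ⊤ := MonoidHom.range_eq_top.2 (pr_surjective R)
  unfold End.up
  rw [Qk_map (subtype_injective _), Qk_comap (by rw [hr]; exact le_top)]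

end up

/-! ### adding a node -/

section opt

variable {G : Type*} [Group G] {I : Type*}

/-- the parabolic subgroups with the new node -/
def opt (P0 : Subgroup G) (P : I → Subgroup G) (o : Option I) : Subgroup G := o.elim P0 P

theorem opt_none (P0 : Subgroup G) (P : I → Subgroup G) : opt P0 P none = P0 := rfl

theorem opt_some (P0 : Subgroup G) (P : I → Subgroup G) (i : I) : opt P0 P (some i) = P i := rfl

theorem iSup_opt (P0 : Subgroup G) (P : I → Subgroup G) : ⨆ o, opt P0 P o = P0 ⊔ ⨆ i, P i := by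
  rw [iSup_option]
  rfl

/-- the Coxeter matrix with the new node -/
def optm (m0 : I → ℕ) (m : I → I → ℕ) : Option I → Option I → ℕ
  | none, none => 1
  | none, some i => m0 i
  | some i, none => m0 i
  | some i, some j => m i j

/-- **Adding a node.** -/
theorem Pre.opt {p : ℕ} {B U : Subgroup G} {P : I → Subgroup G} {m : I → I → ℕ} (D : Pre p B U P m)
    {P0 : Subgroup G} {m0 : I → ℕ} (le : B ≤ P0) (three : ∃ x ∈ P0, ∃ y ∈ P0, x ∉ B ∧ y ∉ B ∧ x⁻¹ * y ∉ B)
    (ptr : Hall.HallData.PTr B U P0)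
    (reg : ∀ u ∈ U, ∀ g ∈ P0, g ∉ B → g⁻¹ * u * g ∈ B → u ∈ Qk B P0) (fpf : FpfG p B U P0)
    (m_two : ∀ i, 2 ≤ m0 i) (poly : ∀ i, Polygon B (opt P0 P) none (some i) (m0 i))
    (sep : ∀ i, SepG p B U P0 (P i) ∨ SepG p B U (P i) P0)
    (frat : ∀ i, ∀ X ≤ U, (∀ u ∈ U, ∃ x ∈ X, x⁻¹ * u ∈ Qk B P0 ∧ x⁻¹ * u ∈ Qk B (P i)) →
      ∀ u ∈ U, ∃ x ∈ X, x⁻¹ * u ∈ Qk B (P0 ⊔ P i)) : Pre p B U (End.opt P0 P) (optm m0 m) where
  U_le := D.U_le
  norm := D.norm
  isP := D.isP
  index := D.index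
  le := by
    rintro (_ | i)
    · exact le
    · exact D.le i
  three := by
    rintro (_ | i)
    · exact three
    · exact D.three i
  ptr := by
    rintro (_ | i)
    · exact ptr
    · exact D.ptr i
  reg := by
    rintro (_ | i)
    · exact reg
    · exact D.reg i
  fpf := by
    rintro (_ | i)
    · exact fpf
    · exact D.fpf i
  m_two := by
    rintro (_ | i) (_ | j) hij
    · exact absurd rfl hij
    · exact m_two j
    · exact m_two i
    · exact D.m_two i j fun h => hij (by rw [h])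
  m_symm := by
    rintro (_ | i) (_ | j)
    · rfl
    · rfl
    · rfl
    · exact D.m_symm i j
  poly := by
    rintro (_ | i) (_ | j) hij
    · exact absurd rfl hij
    · exact poly j
    · exact (poly i).symm
    · exact (polygon_reindex (P := End.opt P0 P) (some : I → Option I)).2 (D.poly i j fun h => hij (by rw [h]))
  sep := by
    rintro (_ | i) (_ | j) hij
    · exact absurd rfl hij
    · exact sep j
    · exact (sep i).symm
    · exact D.sep i j fun h => hij (by rw [h])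
  frat := by
    rintro (_ | i) (_ | j) hij
    · exact absurd rfl hij
    · exact frat j
    · intro X hX h
      have h1 := frat i X hX fun u hu => by
        obtain ⟨x, hx, h1, h2⟩ := h u hu
        exact ⟨x, hx, h2, h1⟩
      intro u hu
      obtain ⟨x, hx, h2⟩ := h1 u hu
      refine ⟨x, hx, ?_⟩
      show x⁻¹ * u ∈ Qk B (P i ⊔ P0)
      rw [sup_comm]
      exact h2
    · exact D.frat i j fun h => hij (by rw [h])

end opt

end Cfsg.Agent.Omega.Lie.End

end

-- merged: Cfsg.Agent.Mrg.Omega.Lie.End.Real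
section

section


/-!
# The end of NODE LIE: the parabolic system of the moved components in `G`

`RS` : an enumeration `K a` of the moved components of `H = N(R i)/O₂(N(R i))` with their parabolic systems
(`KSys`).  `RS.psit` : `PSit`; `RS.realSys` : `RealSys` of `Top.lean` for `U = up (⨆ S ⊓ K)`,
`B = up ((⨆ N_K(S ⊓ K)) T)`, `P ⟨a, k⟩ = up (P_{a,k} B_E T)`.
-/

set_option autoImplicit false
set_option linter.unusedSectionVars false

namespace Cfsg.Agent.Omega.Lie.End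

open Subgroup Cfsg Cfsg.Agent.ParSys Cfsg.Agent.Omega.BTwo Cfsg.Agent.Omega.Lie Cfsg.Agent.Omega.Lie.Quot
open Cfsg.Agent.Omega.IIa4 Cfsg.Agent.Omega.Lie.End.OfLay

universe u v w

variable {G : Type u} [Group G] {ι : Type w} {V : Subgroup G} {R : ι → Subgroup G} {F : Type v} [Field F] {i j : ι}
  {v : F → F → G} {w1 w2 : F → G} {t : F → G}

/-- An enumeration of the moved components with their parabolic systems. -/
structure RS (V : Subgroup G) (R : ι → Subgroup G) (i j : ι) (T S : Subgroup (HQ (R i))) {α : Type}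
    (K : α → Subgroup (HQ (R i))) (J : α → Type) (P : ∀ a, J a → Subgroup (K a)) (m : ∀ a, J a → J a → ℕ) : Prop where
  lay : Lay V R i j T S
  inj : Function.Injective K
  mem : ∀ a, MComp V R i j (K a)
  sur : ∀ L, MComp V R i j L → ∃ a, K a = L
  sys : ∀ a, KSys (S.subgroupOf (K a)) (Tact T (K a)) (P a) (m a)
  sc : CompT.Scal (AA V R i j) T
  oddT : Odd (Nat.card T)
  T3 : 3 ≤ Nat.card T
  normal : (⨆ K ∈ {K : Subgroup (HQ (R i)) | MComp V R i j K}, K).Normal

/-- the Borel subgroup in `G` -/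
abbrev BG {α : Type} (K : α → Subgroup (HQ (R i))) (T S : Subgroup (HQ (R i))) : Subgroup G :=
  up (R i) (CC K (fun a => S.subgroupOf (K a)) T)

/-- the unipotent subgroup in `G` -/
abbrev UG {α : Type} (K : α → Subgroup (HQ (R i))) (S : Subgroup (HQ (R i))) : Subgroup G :=
  up (R i) (UE K (fun a => S.subgroupOf (K a)))

/-- the parabolic subgroups in `G` -/
abbrev PG {α : Type} (K : α → Subgroup (HQ (R i))) (T S : Subgroup (HQ (R i))) {J : α → Type}
    (P : ∀ a, J a → Subgroup (K a)) (x : Σ a, J a) : Subgroup G :=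
  up (R i) (PPx K (fun a => S.subgroupOf (K a)) T P x)

namespace RS

variable {T S : Subgroup (HQ (R i))} {α : Type} {K : α → Subgroup (HQ (R i))} {J : α → Type}
  {P : ∀ a, J a → Subgroup (K a)} {m : ∀ a, J a → J a → ℕ} (D : RS V R i j T S K J P m)
include D

theorem hyp (a : α) : CompB.Hyp S (AA V R i j) T (K a) := D.lay.hyp _ (D.mem a)

theorem comm [Finite G] : Cmf K := fun a b hab _ hx _ hy =>
  Layer.comm_of_ne (D.mem a).1 (D.mem b).1 (fun h => hab (D.inj h)) hx hy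

theorem T_ne [Finite G] (a : α) : ∃ τ ∈ actT (K a) T, τ ≠ 1 := by
  by_contra hcon
  push Not at hcon
  have h1 : Nat.card (Tact T (K a)) = Nat.card T := card_Tact (D.hyp a) (D.mem a).2.2 D.sc
  have h2 : Tact T (K a) = ⊥ := by
    rw [eq_bot_iff]
    exact fun τ hτ => mem_bot.2 (hcon τ hτ)
  have h3 := D.T3
  rw [h2, card_bot] at h1
  omega

theorem psit [Finite G] : PSit K (fun a => S.subgroupOf (K a)) T J P m where
  comm := D.comm
  oddT := D.oddT
  T_K := fun a => T_le (D.hyp a).toPre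
  T_S := by
    intro a t ht x hx
    have hK := (D.hyp a).TK t ht x x.2
    exact ⟨⟨_, hK⟩, mem_subgroupOf.2 ((D.hyp a).TS t ht x (mem_subgroupOf.1 hx)), rfl⟩
  T_ne := D.T_ne
  sys := D.sys

/-- `U` is in `S` -/
theorem UE_le_S : UE K (fun a => S.subgroupOf (K a)) ≤ S := by
  refine iSup_le fun a => ?_
  rintro _ ⟨x, hx, rfl⟩
  exact mem_subgroupOf.1 hx

/-- `A ≤ U` -/
theorem A_le_UE [Finite G] (b : BT V R) (hij : i ≠ j) : AA V R i j ≤ UE K (fun a => S.subgroupOf (K a)) := by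
  refine (D.lay.A_le b hij).trans (iSup₂_le fun L hL => ?_)
  obtain ⟨a, rfl⟩ := D.sur L hL
  intro x hx
  exact (le_iSup (fun a => (S.subgroupOf (K a)).map (K a).subtype) a)
    ⟨⟨x, hx.2⟩, mem_subgroupOf.2 ((D.hyp a).AS hx.1), rfl⟩

/-- `C` normalises `A` -/
theorem CC_norm_A [Finite G] : CC K (fun a => S.subgroupOf (K a)) T ≤ normalizer (AA V R i j : Set (HQ (R i))) := by
  refine sup_le (iSup_le fun a => ?_) fun t ht => ?_
  · rintro _ ⟨x, hx, rfl⟩
    exact NA.norm_A_of_ksys (D.hyp a) (D.sys a) x.2 hx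
  · refine NA.mem_norm (fun x hx => D.sc.norm t ht x hx) fun x hx => ?_
    have := D.sc.norm t⁻¹ (inv_mem ht) x hx
    rwa [inv_inv] at this

/-- `E = ⨆ K a` -/
theorem iSup_eq : (⨆ K ∈ {K : Subgroup (HQ (R i)) | MComp V R i j K}, K) = ⨆ a, K a := by
  apply le_antisymm
  · refine iSup₂_le fun L hL => ?_
    obtain ⟨a, rfl⟩ := D.sur L hL
    exact le_iSup K a
  · exact iSup_le fun a => le_iSup₂ (f := fun (L : Subgroup (HQ (R i)))
      (_ : L ∈ {K : Subgroup (HQ (R i)) | MComp V R i j K}) => L) (K a) (D.mem a)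

theorem EE_eq [Finite G] (b : BT V R) (hij : i ≠ j) : Moved.EE V R i j = up (R i) (⨆ a, K a) := by
  rw [← D.iSup_eq, ← D.lay.nc_eq b hij D.normal]
  rfl

/-! ### `RealSys` -/

theorem E_le [Finite G] [Nonempty α] (b : BT V R) (hij : i ≠ j) : Moved.EE V R i j ≤ ⨆ x, PG K T S P x := by
  rw [D.EE_eq b hij, up_iSup]
  refine iSup_le fun a => ?_
  have hne : Nonempty (J a) := by
    obtain ⟨k, -⟩ := (D.sys a).moved
    exact ⟨k⟩
  have h1 : K a ≤ ⨆ k, PPx K (fun a => S.subgroupOf (K a)) T P ⟨a, k⟩ := by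
    have h2 := congrArg (Subgroup.map (K a).subtype) (D.sys a).gen
    rw [Subgroup.map_iSup, ← MonoidHom.range_eq_map, range_subtype] at h2
    rw [← h2]
    exact iSup_mono fun k => le_sup_left
  refine (up_mono h1).trans ?_
  rw [up_iSup]
  exact iSup_le fun k => le_iSup (PG K T S P) ⟨a, k⟩

theorem up_T_le (τ : TorD V R i j v t) : up (R i) (TT τ) ≤ XX V R ⊔ Moved.EE V R i j := by
  intro g hg
  obtain ⟨a, ha, -, h1⟩ := mem_up_im.1 hg
  have e : g = a * (a⁻¹ * g) := by group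
  rw [e]
  refine mul_mem (mem_sup_left ?_) (mem_sup_right (Moved.QQ_le_up h1))
  obtain ⟨c, hc, rfl⟩ := ha
  exact τ.memX c hc

theorem le_E [Finite G] (b : BT V R) (hij : i ≠ j) (hT : up (R i) T ≤ XX V R ⊔ Moved.EE V R i j) (x : Σ a, J a) :
    PG K T S P x ≤ XX V R ⊔ Moved.EE V R i j := by
  have h1 : PPx K (fun a => S.subgroupOf (K a)) T P x ≤ (⨆ a, K a) ⊔ T := by
    refine sup_le ?_ (sup_le ?_ le_sup_right)
    · exact (map_subtype_le _).trans ((le_iSup K x.1).trans le_sup_left)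
    · exact (iSup_mono fun a => map_subtype_le _).trans le_sup_left
  refine (up_mono h1).trans ?_
  rw [up_sup, ← D.EE_eq b hij]
  exact sup_le le_sup_right hT

end RS

end Cfsg.Agent.Omega.Lie.End

end

section


/-!
# The end of NODE LIE: `RealSys` from `RS`
-/

set_option autoImplicit false
set_option linter.unusedSectionVars false

namespace Cfsg.Agent.Omega.Lie.End

open Subgroup Cfsg Cfsg.Agent.ParSys Cfsg.Agent.Omega.BTwo Cfsg.Agent.Omega.Lie Cfsg.Agent.Omega.Lie.Quot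
open Cfsg.Agent.Omega.IIa4 Cfsg.Agent.Omega.Lie.End.OfLay

universe u v w

variable {G : Type u} [Group G] {ι : Type w} {V : Subgroup G} {R : ι → Subgroup G} {F : Type v} [Field F] {i j : ι}
  {v : F → F → G} {w1 w2 : F → G} {t : F → G}

namespace RS

variable {T S : Subgroup (HQ (R i))} {α : Type} {K : α → Subgroup (HQ (R i))} {J : α → Type}
  {P : ∀ a, J a → Subgroup (K a)} {m : ∀ a, J a → J a → ℕ} (D : RS V R i j T S K J P m)
include D

theorem UG_le_cen (b : BT V R) : UG K S ≤ centralizer (R i : Set G) := by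
  rw [← Moved.up_H0 b]
  refine up_mono (iSup_le fun a => ?_)
  exact (map_subtype_le _).trans (D.mem a).2.1

theorem K_le_cen (b : BT V R) (a : α) : up (R i) (K a) ≤ centralizer (R i : Set G) := by
  rw [← Moved.up_H0 b]
  exact up_mono (D.mem a).2.1

/-- the parabolic system in `G` -/
theorem preG [Finite G] [Finite α] : Pre 2 (BG K T S) (UG K S) (PG K T S P) (mm m) := D.psit.pre.up

theorem BG_le (hNV : ∀ (g : G) (hg : g ∈ normalizer (R i : Set G)),
    pr (R i) ⟨g, hg⟩ ∈ normalizer (AA V R i j : Set (HQ (R i))) → g ∈ normalizer (V : Set G)) [Finite G] :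
    BG K T S ≤ normalizer (V : Set G) := fun g hg => by
  obtain ⟨h1, h2⟩ := mem_up.1 hg
  exact hNV g h1 (D.CC_norm_A h2)

theorem Y_le_UG [Finite G] (b : BT V R) (hij : i ≠ j) : YY V R ≤ UG K S := by
  refine (le_up_im ((YY_le_cen).trans (b.cen_le_N i))).trans (up_mono ?_)
  rw [Moved.im_YY b hij]
  exact D.A_le_UE b hij

theorem A_le_UG [Finite G] (b : BT V R) (hij : i ≠ j) : UU V R j ≤ UG K S :=
  (UU_le_YY j).trans (D.Y_le_UG b hij)

/-- a moved node is not in `N(V)` -/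
theorem not_le_of_moved [Finite G] (b : BT V R) (hij : i ≠ j) {a : α} {k : J a}
    (hm : End.Moved (S.subgroupOf (K a)) (Tact T (K a)) (P a k)) : ¬ PG K T S P ⟨a, k⟩ ≤ normalizer (V : Set G) := by
  intro hle
  -- `P a k` normalises `A ⊓ K a`
  have h1 : ∀ x ∈ P a k, ∀ y ∈ AT (S.subgroupOf (K a)) (Tact T (K a)),
      x * y * x⁻¹ ∈ AT (S.subgroupOf (K a)) (Tact T (K a)) := by
    intro x hx y hy
    rw [AT_eq (D.hyp a)] at hy ⊢
    obtain ⟨g, hg, e⟩ := exists_pr (x : HQ (R i))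
    have h2 : g ∈ PG K T S P ⟨a, k⟩ := by
      refine mem_up.2 ⟨hg, ?_⟩
      rw [e]
      exact mem_sup_left ⟨x, hx, rfl⟩
    have h3 := Moved.norm_A b hij hg (hle h2) y (mem_subgroupOf.1 hy).1
    rw [e] at h3
    exact mem_subgroupOf.2 ⟨h3, SetLike.coe_mem (x * y * x⁻¹)⟩
  -- hence it is in the kernel of the panel
  have h2 : AT (S.subgroupOf (K a)) (Tact T (K a)) ≤ S.subgroupOf (K a) := by
    rw [AT_eq (D.hyp a)]
    exact fun x hx => mem_subgroupOf.2 ((D.hyp a).AS (mem_subgroupOf.1 hx).1)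
  have h3 : AT (S.subgroupOf (K a)) (Tact T (K a)) ≤ Qk (normalizer (S.subgroupOf (K a) : Set (K a))) (P a k) := by
    intro x hx
    rw [ParSys.mem_Qk]
    intro g hg
    have h4 := h1 g⁻¹ (inv_mem hg) x hx
    rw [inv_inv] at h4
    exact le_normalizer (h2 h4)
  -- so `S ⊓ K a` is in the kernel
  obtain ⟨τ, hτ, hne⟩ := D.T_ne a
  have h4 : S.subgroupOf (K a) ≤ Qk (normalizer (S.subgroupOf (K a) : Set (K a))) (P a k) := by
    intro u hu
    refine hm τ hτ hne u hu (h3 (subset_closure ⟨τ, hτ, u, hu, rfl⟩))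
  -- a contradiction
  have h5 := (D.sys a).five k
  obtain ⟨x, hx, y, hy, hxB, hyB, hxy⟩ := three_of_relIndex (B := normalizer (S.subgroupOf (K a) : Set (K a)))
    (P := P a k) (by omega)
  obtain ⟨u, hu, z, hz, e⟩ := (D.sys a).ptr k x hx hxB y hy hyB
  apply hxy
  have e2 : x⁻¹ * y = (x⁻¹ * u * x) * z := by rw [e]; group
  rw [e2]
  exact mul_mem (ParSys.mem_Qk.1 (h4 hu) x hx) hz

theorem conn [Finite G] (b : BT V R) (hij : i ≠ j) : ∀ I : Set (Σ a, J a), I.Nonempty →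
    (∀ k ∈ I, ∀ l ∉ I, mm m k l < 3) → ∃ k ∈ I, ¬ PG K T S P k ≤ normalizer (V : Set G) := by
  rintro I ⟨⟨a, k⟩, hk⟩ h
  obtain ⟨l, hl⟩ := (D.sys a).moved
  refine ⟨⟨a, l⟩, ?_, D.not_le_of_moved b hij hl⟩
  by_contra hlI
  obtain ⟨x, hx, y, hy, h3⟩ := (D.sys a).conn {x | (⟨a, x⟩ : Σ a, J a) ∈ I} ⟨k, hk⟩ ⟨l, hlI⟩
  have h4 := h ⟨a, x⟩ hx ⟨a, y⟩ hy
  rw [mm_same] at h4
  omega

theorem A_gen [Finite G] (b : BT V R) (hij : i ≠ j) :
    AA V R i j ≤ closure {g | ∃ s ∈ UE K (fun a => S.subgroupOf (K a)), ∃ t ∈ T, s⁻¹ * (t * s * t⁻¹) = g} := by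
  refine (D.lay.A_le b hij).trans (iSup₂_le fun L hL => ?_)
  obtain ⟨a, rfl⟩ := D.sur L hL
  rw [(D.hyp a).inf_eq]
  refine closure_mono ?_
  rintro g ⟨s, hs, t, ht, rfl⟩
  exact ⟨s, le_iSup (fun a => (S.subgroupOf (K a)).map (K a).subtype) a ⟨⟨s, hs.2⟩, mem_subgroupOf.2 hs.1, rfl⟩,
    t, ht, rfl⟩

/-- `A` is in the kernel of the unmoved panels -/
theorem A_le_Qk [Finite G] (b : BT V R) (hij : i ≠ j) {a : α} {k : J a}
    (hu : Unmoved (S.subgroupOf (K a)) (Tact T (K a)) (P a k)) :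
    AA V R i j ≤ Qk (CC K (fun a => S.subgroupOf (K a)) T) (PPx K (fun a => S.subgroupOf (K a)) T P ⟨a, k⟩) := by
  refine (D.A_gen b hij).trans ?_
  rw [closure_le]
  rintro _ ⟨s, hs, t, ht, rfl⟩
  have h1 := D.psit.unmoved hu ht hs
  have h2 : s ∈ PPx K (fun a => S.subgroupOf (K a)) T P ⟨a, k⟩ := D.psit.PPx_le _ (D.psit.U_le hs)
  have h3 := Qk_conj h1 h2
  have e : s⁻¹ * (t * s * t⁻¹ * s⁻¹) * s = s⁻¹ * (t * s * t⁻¹) := by group
  rwa [e] at h3

theorem U_le_Qk [Finite G] (b : BT V R) (hij : i ≠ j) {a : α} {k : J a}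
    (hu : Unmoved (S.subgroupOf (K a)) (Tact T (K a)) (P a k)) :
    UU V R j ≤ Qk (BG K T S) (PG K T S P ⟨a, k⟩) := by
  rw [Qk_up]
  exact (le_up_im (U_le_N b i j)).trans (up_mono (D.A_le_Qk b hij hu))

/-- **the data at the node 0** -/
theorem datG [Finite G] [Finite F] [CharP F 2] [Finite α] (b : BTC V R) (c : Coord V R i j v w1 w2)
    (τ : TorD V R i j v t) (hij : i ≠ j) (hT : T = TT τ)
    (hNV : ∀ (g : G) (hg : g ∈ normalizer (R i : Set G)),
      pr (R i) ⟨g, hg⟩ ∈ normalizer (AA V R i j : Set (HQ (R i))) → g ∈ normalizer (V : Set G)) :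
    Zero.Dat V R i (BG K T S) (UG K S) := by
  refine Zero.dat_of b c τ (D.BG_le hNV) up_le D.preG.U_le ((b.W_le_Q i).trans QQ_le_up) (D.Y_le_UG b.toBT hij) ?_
    D.preG.isP (D.UG_le_cen b.toBT)
  have h1 : τ.grp ≤ normalizer (R i : Set G) := by
    rintro _ ⟨a, ha, rfl⟩
    exact τ.normR ha
  refine (le_up_im h1).trans (up_mono ?_)
  rw [hT]
  exact le_sup_right

/-- **the unmoved nodes normalise `V`** -/
theorem unmoved_le [Finite G] [Finite α] (b : BT V R) (c : Coord V R i j v w1 w2) (hij : i ≠ j)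
    (hd : Zero.Dat V R i (BG K T S) (UG K S))
    (hCA : ∀ x ∈ WW V (R i), (∀ u ∈ UU V R j, u * x * u⁻¹ * x⁻¹ ∈ R i) → x ∈ V) {a : α} {k : J a}
    (hu : Unmoved (S.subgroupOf (K a)) (Tact T (K a)) (P a k)) :
    PG K T S P ⟨a, k⟩ ≤ normalizer (V : Set G) :=
  Zero.unmoved_le b hd c up_le D.preG.norm D.preG.index (D.U_le_Qk b hij hu) hCA

/-- a node is moved iff it is not in `N(V)` -/
theorem moved_iff [Finite G] [Finite α] (b : BT V R) (c : Coord V R i j v w1 w2) (hij : i ≠ j)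
    (hd : Zero.Dat V R i (BG K T S) (UG K S))
    (hCA : ∀ x ∈ WW V (R i), (∀ u ∈ UU V R j, u * x * u⁻¹ * x⁻¹ ∈ R i) → x ∈ V) {a : α} {k : J a} :
    End.Moved (S.subgroupOf (K a)) (Tact T (K a)) (P a k) ↔ ¬ PG K T S P ⟨a, k⟩ ≤ normalizer (V : Set G) := by
  refine ⟨D.not_le_of_moved b hij, fun h => ?_⟩
  rcases (D.sys a).dich k with h1 | h1
  · exact absurd (D.unmoved_le b c hij hd hCA h1) h
  · exact h1

/-- `P k ≤ (P k ⊓ C(R i)) B` -/
theorem PG_le (b : BT V R) (x : Σ a, J a) : PG K T S P x ≤ (PG K T S P x ⊓ centralizer (R i : Set G)) ⊔ BG K T S := by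
  have h1 : PG K T S P x = up (R i) ((P x.1 x.2).map (K x.1).subtype) ⊔ BG K T S := up_sup
  have h2 : up (R i) ((P x.1 x.2).map (K x.1).subtype) ≤ PG K T S P x ⊓ centralizer (R i : Set G) := by
    refine le_inf (up_mono le_sup_left) ?_
    exact (up_mono (map_subtype_le _)).trans (D.K_le_cen b x.1)
  calc PG K T S P x = up (R i) ((P x.1 x.2).map (K x.1).subtype) ⊔ BG K T S := h1
    _ ≤ _ := sup_le_sup_right h2 _

/-- an unmoved node is a product with the node 0 -/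
theorem prod [Finite G] [Finite α] [CharP F 2] (b : BT V R) (c : Coord V R i j v w1 w2)
    (hd : Zero.Dat V R i (BG K T S) (UG K S)) (x : Σ a, J a) (hx : PG K T S P x ≤ normalizer (V : Set G)) :
    ∃ L ≤ centralizer (V : Set G), BG K T S ≤ normalizer (L : Set G) ∧ PG K T S P x = L ⊔ BG K T S := by
  have hp := D.preG
  refine Zero.exists_L b hd c (hp.le x) hx (D.PG_le b x) hp.isP (D.UG_le_cen b)
    (hp.odd_relIndex' x (le_inf (hp.U_le.trans (hp.le x)) (D.UG_le_cen b)) inf_le_left) ?_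
  exact (inf_le_inf_right _ inf_le_left).trans (hp.inf_norm_le x)

/-- **`RealSys`** -/
theorem realSys [Finite G] [Finite F] [CharP F 2] [Finite α] [Nonempty α] (b : BTC V R) (c : Coord V R i j v w1 w2)
    (τ : TorD V R i j v t) (hij : i ≠ j) (hT : T = TT τ)
    (hNV : ∀ (g : G) (hg : g ∈ normalizer (R i : Set G)),
      pr (R i) ⟨g, hg⟩ ∈ normalizer (AA V R i j : Set (HQ (R i))) → g ∈ normalizer (V : Set G)) :
    RealSys V R i (IIa4.Moved.EE V R i j) (BG K T S) (UG K S) (PG K T S P) (mm m) := by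
  have hd := D.datG b c τ hij hT hNV
  refine ⟨hd, D.preG, D.E_le b.toBT hij, ?_, D.prod b.toBT c hd, D.conn b.toBT hij⟩
  refine D.le_E b.toBT hij ?_
  rw [hT]
  exact D.up_T_le τ

end RS

end Cfsg.Agent.Omega.Lie.End

end

section


/-!
# II.0h1, split: `RealSys` from the enumeration `RS` of the moved components (BTS version)

`datS` : the data at the node 0; `realSysS` : `RealSys`; `UG_le` : `U ≤ S₁`; `PG_le_NR` : the nodes lie in `N(R i)`.
-/

set_option autoImplicit false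
set_option linter.unusedSectionVars false

namespace Cfsg.Agent.Omega.HOne.RealOf

open Subgroup Cfsg Cfsg.Agent.ParSys Cfsg.Agent.Omega.BTwo Cfsg.Agent.Omega.Lie Cfsg.Agent.Omega.Lie.Quot
open Cfsg.Agent.Omega.IIa4 Cfsg.Agent.Omega.Lie.End.OfLay Cfsg.Agent.Omega.Lie.End

universe u v w

variable {G : Type u} [Group G] {ι : Type w} {V : Subgroup G} {R : ι → Subgroup G} {F : Type v} [Field F] {i j : ι}
  {v : F → F → G} {w1 w2 : F → G} {t : F → G}

variable {T S : Subgroup (HQ (R i))} {α : Type} {K : α → Subgroup (HQ (R i))} {J : α → Type}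
  {P : ∀ a, J a → Subgroup (K a)} {m : ∀ a, J a → J a → ℕ} (D : RS V R i j T S K J P m)
include D

/-- **the data at the node 0** -/
theorem datS [Finite G] [Finite F] [CharP F 2] [Finite α] (hF : ∃ a : F, a ≠ 0 ∧ a ≠ 1) (b : BTS V R)
    (c : Coord V R i j v w1 w2) (τ : TorD V R i j v t) (hij : i ≠ j) (hT : T = TT τ)
    (hNV : ∀ (g : G) (hg : g ∈ normalizer (R i : Set G)),
      pr (R i) ⟨g, hg⟩ ∈ normalizer (AA V R i j : Set (HQ (R i))) → g ∈ normalizer (V : Set G)) :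
    Zero.Dat V R i (BG K T S) (UG K S) := by
  refine XV.dat_of hF b c τ (D.BG_le hNV) up_le D.preG.U_le ((b.W_le_Q i).trans QQ_le_up) (D.Y_le_UG b.toBT hij) ?_
    D.preG.isP (D.UG_le_cen b.toBT)
  have h1 : τ.grp ≤ normalizer (R i : Set G) := by
    rintro _ ⟨a, ha, rfl⟩
    exact τ.normR ha
  refine (le_up_im h1).trans (up_mono ?_)
  rw [hT]
  exact le_sup_right

/-- **`RealSys`** -/
theorem realSysS [Finite G] [Finite F] [CharP F 2] [Finite α] [Nonempty α] (hF : ∃ a : F, a ≠ 0 ∧ a ≠ 1)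
    (b : BTS V R) (c : Coord V R i j v w1 w2) (τ : TorD V R i j v t) (hij : i ≠ j) (hT : T = TT τ)
    (hNV : ∀ (g : G) (hg : g ∈ normalizer (R i : Set G)),
      pr (R i) ⟨g, hg⟩ ∈ normalizer (AA V R i j : Set (HQ (R i))) → g ∈ normalizer (V : Set G)) :
    RealSys V R i (IIa4.Moved.EE V R i j) (BG K T S) (UG K S) (PG K T S P) (mm m) := by
  have hd := datS D hF b c τ hij hT hNV
  refine ⟨hd, D.preG, D.E_le b.toBT hij, ?_, D.prod b.toBT c hd, D.conn b.toBT hij⟩
  refine D.le_E b.toBT hij ?_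
  rw [hT]
  exact D.up_T_le τ

theorem PG_le_NR (x : Σ a, J a) : PG K T S P x ≤ normalizer (R i : Set G) := up_le

omit D in
/-- the preimage of `im S₁` lies in `S₁` -/
theorem up_SS_le [Finite G] {S₁ : Sylow 2 G} (hR : (S₁ : Subgroup G) ≤ normalizer (R i : Set G)) :
    up (R i) (SS R i S₁) ≤ (S₁ : Subgroup G) := by
  intro g hg
  obtain ⟨a, ha, -, h1⟩ := mem_up_im.1 hg
  have e : g = a * (a⁻¹ * g) := by group
  rw [e]
  exact mul_mem (mem_inf.1 ha).1 (QQ_le_sylow S₁ hR h1)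

/-- `U ≤ S₁` -/
theorem UG_le [Finite G] {S₁ : Sylow 2 G} (hR : (S₁ : Subgroup G) ≤ normalizer (R i : Set G)) (hS : S = SS R i S₁) :
    UG K S ≤ (S₁ : Subgroup G) := by
  refine (up_mono D.UE_le_S).trans ?_
  rw [hS]
  exact up_SS_le hR

end Cfsg.Agent.Omega.HOne.RealOf

end

section


/-!
# The end of NODE LIE: enumeration of the moved components (`RS`)

`AA_ne_bot` : `A ≠ 1`; `exists_mcomp` : there is a moved component;
`exists_RS` : an enumeration `K : Fin n → Subgroup (HQ (R i))` of the moved components with their parabolic systems,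
from LAYER and the K-side.
-/

set_option autoImplicit false
set_option linter.unusedSectionVars false

namespace Cfsg.Agent.Omega.Lie.End.RealEnum

open Subgroup Cfsg Cfsg.Agent.ZN Cfsg.Agent.Omega.NatPair Cfsg.Agent.Omega.BTwo Cfsg.Agent.Omega.Frame
open Cfsg.Agent.Omega.Lie Cfsg.Agent.Omega.Lie.Quot Cfsg.Agent.Omega.IIa4 Cfsg.Agent.Omega.Lie.End
open Cfsg.Agent.Omega.Lie.End.OfLay

universe u

/-- enumeration of the subgroups with a property -/
theorem exists_enum {H : Type*} [Group H] [Finite H] (p : Subgroup H → Prop) :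
    ∃ (n : ℕ) (K : Fin n → Subgroup H), Function.Injective K ∧ ∀ L, p L ↔ ∃ a, K a = L := by
  have hfin : Finite {L : Subgroup H // p L} := inferInstance
  refine ⟨Nat.card {L : Subgroup H // p L}, fun a => ((Finite.equivFin {L : Subgroup H // p L}).symm a).1, ?_, ?_⟩
  · intro a c h
    exact (Finite.equivFin {L : Subgroup H // p L}).symm.injective (Subtype.ext h)
  · intro L
    constructor
    · intro h
      exact ⟨Finite.equivFin {L : Subgroup H // p L} ⟨L, h⟩, by simp⟩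
    · rintro ⟨a, rfl⟩
      exact ((Finite.equivFin {L : Subgroup H // p L}).symm a).2

variable {G : Type u} [Group G] {ι : Type*} {V : Subgroup G} {R : ι → Subgroup G} {i j : ι}

/-- `A ≠ 1` -/
theorem AA_ne_bot [Finite G] (b : BTC V R) (S₁ : Sylow 2 G) (hij : i ≠ j)
    (hSV : (S₁ : Subgroup G) ≤ normalizer (V : Set G)) (hSR : (S₁ : Subgroup G) ≤ normalizer (R i : Set G)) :
    AA V R i j ≠ ⊥ := by
  intro h0
  refine Cz.not_UU_le b S₁ hij hSV hSR fun u hu => ?_
  refine (U_inf_Q b.toBT hij hu).1 ?_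
  have h1 : pr (R i) ⟨u, U_le_N b.toBT i j hu⟩ ∈ AA V R i j := (mem_AA b.toBT).2 ⟨u, hu, rfl⟩
  rw [h0, mem_bot] at h1
  exact (pr_eq_one _).1 h1

/-- there is a moved component if `A ≠ 1` -/
theorem exists_mcomp_of_ne [Finite G] (b : BT V R) (hij : i ≠ j) (hA : AA V R i j ≠ ⊥)
    {T S : Subgroup (HQ (R i))} (l : Lay V R i j T S) : ∃ K : Subgroup (HQ (R i)), MComp V R i j K := by
  by_contra hcon
  push Not at hcon
  refine hA (eq_bot_iff.2 ((l.A_le b hij).trans (iSup₂_le fun K hK => ?_)))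
  exact absurd hK (hcon K)

/-- there is a moved component -/
theorem exists_mcomp [Finite G] (b : BTC V R) (S₁ : Sylow 2 G) (hij : i ≠ j)
    (hSV : (S₁ : Subgroup G) ≤ normalizer (V : Set G)) (hSR : (S₁ : Subgroup G) ≤ normalizer (R i : Set G))
    {T S : Subgroup (HQ (R i))} (l : Lay V R i j T S) : ∃ K : Subgroup (HQ (R i)), MComp V R i j K :=
  exists_mcomp_of_ne b.toBT hij (AA_ne_bot b S₁ hij hSV hSR) l

/-- **Enumeration of the moved components**, abstract form. -/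
theorem exists_RS_of [Finite G] {T S : Subgroup (HQ (R i))} (l : Lay V R i j T S)
    (hsys : ∀ K : Subgroup (HQ (R i)), MComp V R i j K → ∃ (J : Type) (_ : Finite J) (P : J → Subgroup K)
      (m : J → J → ℕ), KSys (S.subgroupOf K) (Tact T K) P m)
    (sc : CompT.Scal (AA V R i j) T) (oddT : Odd (Nat.card T)) (T3 : 3 ≤ Nat.card T)
    (hn : (⨆ K ∈ {K : Subgroup (HQ (R i)) | MComp V R i j K}, K).Normal)
    (hne : ∃ K : Subgroup (HQ (R i)), MComp V R i j K) :
    ∃ (n : ℕ) (K : Fin n → Subgroup (HQ (R i))) (J : Fin n → Type) (P : ∀ a, J a → Subgroup (K a))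
      (m : ∀ a, J a → J a → ℕ), (∀ a, Finite (J a)) ∧ Nonempty (Fin n) ∧ RS V R i j T S K J P m := by
  obtain ⟨n, K, hinj, hK⟩ := exists_enum (MComp V R i j)
  have hK' : ∀ a, MComp V R i j (K a) := fun a => (hK _).2 ⟨a, rfl⟩
  choose J hJ P m hs using fun a => hsys (K a) (hK' a)
  obtain ⟨L, hL⟩ := hne
  obtain ⟨a₀, -⟩ := (hK L).1 hL
  exact ⟨n, K, J, P, m, hJ, ⟨a₀⟩, l, hinj, hK', fun L hL => (hK L).1 hL, hs, sc, oddT, T3, hn⟩

/-- **Enumeration of the moved components**, abstract form with an additional property `Φ K J P` of the systems. -/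
theorem exists_RS_of_prop [Finite G] {T S : Subgroup (HQ (R i))} (l : Lay V R i j T S)
    (Φ : ∀ (K : Subgroup (HQ (R i))) (J : Type), (J → Subgroup K) → Prop)
    (hsys : ∀ K : Subgroup (HQ (R i)), MComp V R i j K → ∃ (J : Type) (_ : Finite J) (P : J → Subgroup K)
      (m : J → J → ℕ), KSys (S.subgroupOf K) (Tact T K) P m ∧ Φ K J P)
    (sc : CompT.Scal (AA V R i j) T) (oddT : Odd (Nat.card T)) (T3 : 3 ≤ Nat.card T)
    (hn : (⨆ K ∈ {K : Subgroup (HQ (R i)) | MComp V R i j K}, K).Normal)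
    (hne : ∃ K : Subgroup (HQ (R i)), MComp V R i j K) :
    ∃ (n : ℕ) (K : Fin n → Subgroup (HQ (R i))) (J : Fin n → Type) (P : ∀ a, J a → Subgroup (K a))
      (m : ∀ a, J a → J a → ℕ), (∀ a, Finite (J a)) ∧ Nonempty (Fin n) ∧ RS V R i j T S K J P m ∧
        ∀ a, Φ (K a) (J a) (P a) := by
  obtain ⟨n, K, hinj, hK⟩ := exists_enum (MComp V R i j)
  have hK' : ∀ a, MComp V R i j (K a) := fun a => (hK _).2 ⟨a, rfl⟩
  choose J hJ P m hs using fun a => hsys (K a) (hK' a)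
  obtain ⟨L, hL⟩ := hne
  obtain ⟨a₀, -⟩ := (hK L).1 hL
  exact ⟨n, K, J, P, m, hJ, ⟨a₀⟩, ⟨l, hinj, hK', fun L hL => (hK L).1 hL, fun a => (hs a).1, sc, oddT, T3, hn⟩,
    fun a => (hs a).2⟩

/-- **Enumeration of the moved components**, from LAYER and `KSideX`, with `Opp` and `OneL`. -/
theorem exists_RSX [Finite G] {F : Type*} [Field F] [Finite F] [CharP F 2] {v : F → F → G} {t : F → G}
    (hks : KSideX.{u}) (b : BT V R) (τ : TorD V R i j v t) (hij : i ≠ j) (h4 : 4 ≤ Nat.card F)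
    {S : Subgroup (HQ (R i))} (l : Lay V R i j (TT τ) S)
    (hexc : ∀ K : Subgroup (HQ (R i)), MComp V R i j K → ¬ KExc K (S.subgroupOf K) (Tact (TT τ) K))
    (hn : (⨆ K ∈ {K : Subgroup (HQ (R i)) | MComp V R i j K}, K).Normal)
    (hne : ∃ K : Subgroup (HQ (R i)), MComp V R i j K) :
    ∃ (n : ℕ) (K : Fin n → Subgroup (HQ (R i))) (J : Fin n → Type) (P : ∀ a, J a → Subgroup (K a))
      (m : ∀ a, J a → J a → ℕ), (∀ a, Finite (J a)) ∧ Nonempty (Fin n) ∧ RS V R i j (TT τ) S K J P m ∧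
        ∀ a, Opp (normalizer (S.subgroupOf (K a) : Set (K a))) (S.subgroupOf (K a)) (P a) ∧ OneL (K a) (J a) :=
  exists_RS_of_prop l
    (fun K J P => Opp (normalizer (S.subgroupOf K : Set K)) (S.subgroupOf K) P ∧ OneL K J)
    (fun K hK => (ksysX_of_lay hks b τ hij h4 l hK).resolve_right (hexc K hK)) (scal b τ hij)
    (odd_TT b τ) (three_le_TT b τ h4) hn hne

/-- **Enumeration of the moved components**, from LAYER and `KSide`. -/
theorem exists_RS [Finite G] {F : Type*} [Field F] [Finite F] [CharP F 2] {v : F → F → G} {t : F → G}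
    (hks : KSide.{u}) (b : BT V R) (τ : TorD V R i j v t) (hij : i ≠ j) (h4 : 4 ≤ Nat.card F)
    {S : Subgroup (HQ (R i))} (l : Lay V R i j (TT τ) S)
    (hexc : ∀ K : Subgroup (HQ (R i)), MComp V R i j K → ¬ KExc K (S.subgroupOf K) (Tact (TT τ) K))
    (hn : (⨆ K ∈ {K : Subgroup (HQ (R i)) | MComp V R i j K}, K).Normal)
    (hne : ∃ K : Subgroup (HQ (R i)), MComp V R i j K) :
    ∃ (n : ℕ) (K : Fin n → Subgroup (HQ (R i))) (J : Fin n → Type) (P : ∀ a, J a → Subgroup (K a))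
      (m : ∀ a, J a → J a → ℕ), (∀ a, Finite (J a)) ∧ Nonempty (Fin n) ∧ RS V R i j (TT τ) S K J P m :=
  exists_RS_of l (fun K hK => (ksys_of_lay hks b τ hij h4 l hK).resolve_right (hexc K hK)) (scal b τ hij)
    (odd_TT b τ) (three_le_TT b τ h4) hn hne

end Cfsg.Agent.Omega.Lie.End.RealEnum

end

end
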