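import Cfsg.Agent.Mrg.Omega.Lie.End.KMain
import Cfsg.Agent.FixBN.PslGood
import Cfsg.Agent.FixBN.WittNodeD
import Cfsg.Agent.KFacts.SLRow.Psl
import Cfsg.Agent.KFacts.SLRow.OmegaPlus
import Cfsg.Agent.Mrg.Omega.Lie.End.KSideMain
import Cfsg.Agent.Nodes.WittAll
import Cfsg.Agent.Mrg.Omega.Lie.End.ZeroLone
import Cfsg.Agent.KFacts.SysSp
import Cfsg.Agent.Nodes.WittInst
import Cfsg.Agent.OddHalf.DblR.MinusTor
import Mathlib
import Cfsg.Agent.KFacts.TwESix.NodeCoord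

-- merged: Cfsg.Agent.Mrg.Omega.Lie.End.RowCls
section

/-!
# Rows of the table: `L_n(q)` (`n ≥ 3`) and `PΩ⁺_{2m}(q)` (`m ≥ 4`), `q` even
-/

set_option autoImplicit false
set_option linter.unusedSectionVars false

namespace Cfsg.Agent.Omega.Lie.End

open CoxeterSystem Cfsg.Agent.ChevalleyStructure.CoxeterGeom Cfsg.Agent.Tits.Roots Cfsg.Agent.Tits.Core
  Cfsg.Agent.Tits.RootComb Cfsg.Agent.Nodes.Comb Cfsg.Agent.Nodes.Reps Cfsg.Agent.Nodes.BNOf
  Cfsg.Agent.Nodes.RGDLib Cfsg.Agent.KFacts.RgdCharP Cfsg.Agent.KFacts.SLRow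

theorem conn_of_def {I : Type*} {M : CoxeterMatrix I} (h : Def.Conn M) : Conn M := by
  intro J h1 h2
  obtain ⟨a, ha, b, hb, hab⟩ := h J h1 (Set.nonempty_compl.2 h2)
  exact ⟨a, ha, b, hb, hab⟩

namespace RowPsl

open Matrix Cfsg.Agent.Nodes.RootsA Cfsg.Agent.Nodes.RGDTypeA Cfsg.Agent.FixBN.PslGood
open Cfsg.Agent.LieRecognition.BNCox (cA)
open Cfsg.Agent.LieClassical.SLGen
open Cfsg.Agent.TitsThree.KSideA (tv tv_of_ne tv_add tv_zero tv_neg)

theorem tv_not_central {n : ℕ} {F : Type*} [Field F] (i : Fin n) (a : F)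
    (h1 : pr n F (tv i.castSucc i.succ a) = 1) : a = 0 := by
  have hab : i.castSucc ≠ i.succ := (Fin.castSucc_lt_succ).ne
  have h1' : tv i.castSucc i.succ a ∈ (pr n F).ker := h1
  rw [ker_pr] at h1'
  by_contra hne
  have h3 := Subgroup.mem_center_iff.1 h1' (tv i.succ i.castSucc 1)
  have h4 := congrArg (fun g : SpecialLinearGroup (Fin (n + 1)) F =>
    (g • (Pi.single i.castSucc 1 : Fin (n + 1) → F)) i.castSucc) h3
  rw [tv_of_ne hab, tv_of_ne hab.symm] at h4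
  simp only [mul_smul, transvection_smul] at h4
  simp [hab, hab.symm] at h4
  exact hne h4

/-- **`L_{n+1}(F)`, `n ≥ 2`, `F` of characteristic 2** -/
theorem hasRow {F : Type*} [Field F] [Finite F] [CharP F 2] {n : ℕ} (hn : 2 ≤ n) :
    HasRow (ProjectiveSpecialLinearGroup (Fin (n + 1)) F) := by
  have : Fact (Nat.Prime 2) := ⟨Nat.prime_two⟩
  have hW : Finite (cA n).Group := finite_W (cA n).toCoxeterSystem (isCartan n)
  have R := rgd_psl (F := F) (p := 2) (cA n).toCoxeterSystem (isCartan n)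
  have hTc : ∀ s ∈ (T (Fin (n + 1)) F).map (pr n F), ∀ t ∈ (T (Fin (n + 1)) F).map (pr n F), s * t = t * s := by
    rintro _ ⟨s, hs, rfl⟩ _ ⟨t, ht, rfl⟩
    rw [← map_mul, torus_comm hs ht, map_mul]
  refine ⟨n, cA n, AA n, isCartan n, _, _, _, hW, R, G1_psl_eq_top _ _, ?_, conn_of_def Psl.conn_cA, hTc, fun h4 _ i => ?_,
    fun _ _ i j e => absurd e (Psl.cA_ne i j).1, fun i j e => absurd e (Psl.cA_ne i j).2⟩
  · exact ⟨⟨0, by omega⟩, ⟨1, by omega⟩, fun e => by simpa using congrArg Fin.val e⟩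
  have hab : i.castSucc ≠ i.succ := (Fin.castSucc_lt_succ).ne
  have hr : ∀ y, y ∈ (X F (sr i)).map (pr n F) ↔ ∃ a, pr n F (tv i.castSucc i.succ a) = y := by
    intro y
    rw [X_sr, Subgroup.mem_map]
    constructor
    · rintro ⟨_, ⟨a, rfl⟩, rfl⟩
      exact ⟨a, rfl⟩
    · rintro ⟨a, rfl⟩
      exact ⟨_, ⟨a, rfl⟩, rfl⟩
  have hF : 4 ≤ Nat.card F := by
    refine (h4 i).trans (Nat.card_le_card_of_surjective
      (fun a : F => (⟨pr n F (tv i.castSucc i.succ a), (hr _).2 ⟨a, rfl⟩⟩ : ↥((X F (sr i)).map (pr n F)))) ?_)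
    rintro ⟨y, hy⟩
    obtain ⟨a, rfl⟩ := (hr y).1 hy
    exact ⟨a, rfl⟩
  refine KNode.of_field R i (fun a => pr n F (tv i.castSucc i.succ a)) (-1) (fun a c => ?_) hr
    (tv_not_central i) (neg_ne_zero.2 one_ne_zero) (fun a ha => ?_) hTc hF
  · rw [tv_add, map_mul]
  · have hk := key hab ha
    have hns : ns n F i = nn i.castSucc i.succ 1 := rfl
    show (pr n F (tv i.castSucc i.succ (-1 * a⁻¹)) * pr n F (ns n F i))⁻¹ *
      (pr n F (ns n F i) * pr n F (tv i.castSucc i.succ a) * pr n F (ns n F i)) ∈ _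
    rw [hns, neg_one_mul, ← map_mul, ← map_mul, ← map_mul, hk, map_mul _ (_ * _) (_ * _), inv_mul_cancel_left, map_mul]
    exact mul_mem (RGD.T_le_B ⟨_, diag_mem_T hab _, rfl⟩)
      (RGD.X_le_B (isRoot_sr _ _ i) (sr_nonneg i) ((hr _).2 ⟨_, rfl⟩))

end RowPsl

theorem hasRow_PSL {F : Type*} [Field F] [Finite F] [CharP F 2] {n : ℕ} (hn : 3 ≤ n) :
    HasRow (Matrix.ProjectiveSpecialLinearGroup (Fin n) F) := by
  obtain ⟨m, rfl⟩ : ∃ m, n = m + 1 := ⟨n - 1, by omega⟩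
  exact RowPsl.hasRow (by omega)

namespace RowOPlus

open QuadraticMap
open Cfsg.Agent.LieClassical Cfsg.Agent.LieClassical.OrthCore Cfsg.Agent.LieClassical.OrthTrans
open Cfsg.Agent.LieClassical.OrthSimple Cfsg.Agent.LieClassical.OrthFinite Cfsg.Agent.LieClassical.OrthForms
open Cfsg.Agent.TitsThree Cfsg.Agent.TitsThree.Siegel Cfsg.Agent.TitsThree.SiegelGen
  Cfsg.Agent.TitsThree.WittFrame Cfsg.Agent.TitsThree.WittWeyl Cfsg.Agent.TitsThree.WBridge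
  Cfsg.Agent.TitsThree.KSideO
open Cfsg.Agent.Nodes
open Cfsg.Agent.Nodes.WittInst
open Cfsg.Agent.Nodes.WittRoot (Amb XG ZG PG Mono)
open Cfsg.Agent.Nodes.WittRGD (Tor mem_Tor b_ne_zero)
open Cfsg.Agent.FixBN.WittNodeA Cfsg.Agent.FixBN.WittNodeB Cfsg.Agent.FixBN.WittNodeC Cfsg.Agent.FixBN.WittNodeD

theorem hasRow {F : Type} [Field F] [Finite F] [CharP F 2] {m : ℕ} (hm : 1 ≤ m) :
    HasRow (Cfsg.POmega F (Cfsg.quadFormPlus (m + 2) F)) := by
  have : Fact (Nat.Prime 2) := ⟨Nat.prime_two⟩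
  rw [← coe_plusForm]
  have hG : Good (plusForm (m + 2) F) := by
    apply good_of_finite (nondeg_plusForm (m + 2) F)
    rw [Module.finrank_fintype_fun_eq_card, Fintype.card_sum, Fintype.card_fin]
    omega
  have hW : Finite (TypeD.M m).Group := TypeD.finite_W (TypeD.M m).toCoxeterSystem
  have hA := amb_plus (F := F) (m + 2)
  set W := wplus (m + 2) F with hWd
  have hfin : Finite (((Fin (m + 2)) ⊕ (Fin (m + 2)) → F) ≃ₗ[F] ((Fin (m + 2)) ⊕ (Fin (m + 2)) → F)) :=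
    Finite.of_injective (fun g : ((Fin (m + 2)) ⊕ (Fin (m + 2)) → F) ≃ₗ[F] ((Fin (m + 2)) ⊕ (Fin (m + 2)) → F) =>
      (g : ((Fin (m + 2)) ⊕ (Fin (m + 2)) → F) → ((Fin (m + 2)) ⊕ (Fin (m + 2)) → F))) DFunLike.coe_injective
  have R1 := rgd_restrict (WittAll.rgdD hA (adm_plus _) (p := 2) (TypeD.M m).toCoxeterSystem) (E (plusForm (m + 2) F))
    (fun x _ => rgD_le W hA x) (fun i => WittRGDD.nn_mem hA i)
  have R := rgdD_model W hG (amb_plus _) (adm_plus _) (p := 2) (TypeD.M m).toCoxeterSystem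
  have hTc : ∀ s ∈ ((Tor (toFrame W) (E (plusForm (m + 2) F))).subgroupOf (E (plusForm (m + 2) F))).map (toPOmega hG),
      ∀ t ∈ ((Tor (toFrame W) (E (plusForm (m + 2) F))).subgroupOf (E (plusForm (m + 2) F))).map (toPOmega hG),
      s * t = t * s := by
    rintro _ ⟨g, hg, rfl⟩ _ ⟨k, hk, rfl⟩
    rw [← map_mul, ← map_mul]
    exact congrArg _ (Subtype.ext (comm_Tor W hA 0 (by rw [Submodule.span_zero_singleton]; rfl)
      (Subgroup.mem_subgroupOf.1 hg) (Subgroup.mem_subgroupOf.1 hk)))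
  refine ⟨m + 2, TypeD.M m, TypeD.A m, TypeD.isCartan m, _, _, _, hW, R,
    G1D_eq_top W (toPOmega hG) (toPOmega_surjective hG) (adm_plus _) _, ?_, conn_of_def (OmegaPlus.conn_M m hm), hTc,
    fun h4 _ i => ?_, fun _ _ i j e => absurd e (OmegaPlus.M_ne m i j).1,
    fun i j e => absurd e (OmegaPlus.M_ne m i j).2⟩
  · exact ⟨⟨0, by omega⟩, ⟨1, by omega⟩, fun e => by simpa using congrArg Fin.val e⟩
  have hne : ((i, true) : Fin (m + 2) × Bool).1 ≠ (TypeD.nx i).1 := TypeD.ok_nx i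
  have hr : ∀ u, u ∈ XD W (toPOmega hG) (sr i) ↔
      ∃ a : F, toPOmega hG ⟨(toFrame W).X (i, true) (TypeD.nx i) a, hA.X_mem _ _ _⟩ = u := by
    intro u
    constructor
    · rintro ⟨g, hg, rfl⟩
      have h1 : (g : ((Fin (m + 2)) ⊕ (Fin (m + 2)) → F) ≃ₗ[F] ((Fin (m + 2)) ⊕ (Fin (m + 2)) → F)) ∈
        WittRGDD.rg (toFrame W) (sr i) := hg
      rw [WittRGDD.rg_sr] at h1
      obtain ⟨a, ha⟩ := h1
      exact ⟨a, congrArg _ (Subtype.ext ha.symm)⟩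
    · rintro ⟨a, rfl⟩
      refine ⟨_, ?_, rfl⟩
      show (toFrame W).X (i, true) (TypeD.nx i) a ∈ WittRGDD.rg (toFrame W) (sr i)
      rw [WittRGDD.rg_sr]
      exact ⟨a, rfl⟩
  have hF : 4 ≤ Nat.card F := by
    refine (h4 i).trans (Nat.card_le_card_of_surjective
      (fun a : F => (⟨toPOmega hG ⟨(toFrame W).X (i, true) (TypeD.nx i) a, hA.X_mem _ _ _⟩, (hr _).2 ⟨a, rfl⟩⟩ :
        ↥(XD W (toPOmega hG) (sr i)))) ?_)
    rintro ⟨y, hy⟩
    obtain ⟨a, rfl⟩ := (hr y).1 hy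
    exact ⟨a, rfl⟩
  refine KNode.of_field R i (fun a => toPOmega hG ⟨(toFrame W).X (i, true) (TypeD.nx i) a, hA.X_mem _ _ _⟩) (-1)
    (fun a b => ?_) hr (fun a ha => ?_) (neg_ne_zero.2 one_ne_zero) (fun a ha => ?_) hTc hF
  · rw [← map_mul]
    exact congrArg _ (Subtype.ext ((toFrame W).X_add _ _ _ _))
  · have h3 := center_of_toPOmega hG (show _ ∈ (toPOmega hG).ker from ha)
    have h4 := eq_one_of_comm R1 i (x := ⟨(toFrame W).X (i, true) (TypeD.nx i) a, hA.X_mem _ _ _⟩) (by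
      show (toFrame W).X (i, true) (TypeD.nx i) a ∈ WittRGDD.rg (toFrame W) (sr i)
      rw [WittRGDD.rg_sr]
      exact ⟨a, rfl⟩) (Subgroup.mem_center_iff.1 h3 _)
    have h5 : (toFrame W).X (i, true) (TypeD.nx i) a = 1 := congrArg Subtype.val h4
    have h6 := X_apply_neg (toFrame W) hne a
    rw [h5] at h6
    have h7 : a • (toFrame W).b (i, true) = 0 := by
      have h8 : (toFrame W).b (neg (TypeD.nx i)) = (toFrame W).b (neg (TypeD.nx i)) + a • (toFrame W).b (i, true) := h6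
      exact (add_eq_left.1 h8.symm)
    exact (smul_eq_zero.1 h7).resolve_right (b_ne_zero _)
  · rw [neg_one_mul]
    refine mem_B_of_eq' R i (m := toPOmega hG ⟨nX (toFrame W) (i, true) (TypeD.nx i) a⁻¹,
      WittRGDD.nX_mem hA _ _ _⟩) (z := toPOmega hG ⟨(toFrame W).X (i, true) (TypeD.nx i) (-a⁻¹), hA.X_mem _ _ _⟩)
      ?_ ?_ ((hr _).2 ⟨_, rfl⟩)
    · rw [← map_inv, ← map_mul, ← map_mul, ← map_mul, ← map_mul]
      exact congrArg _ (Subtype.ext (conj_X_eq (toFrame W) hne ha))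
    · rw [← map_inv, ← map_mul]
      refine ⟨_, ?_, rfl⟩
      show (WittRGDD.nn (toFrame W) i)⁻¹ * nX (toFrame W) (i, true) (TypeD.nx i) a⁻¹ ∈
        Tor (toFrame W) (E (plusForm (m + 2) F))
      exact ⟨mul_mem (inv_mem (WittRGDD.nn_mem hA i)) (WittRGDD.nX_mem hA _ _ _),
        (((WittRGDD.mono_nn i).inv (TypeD.sg_sg i)).mul (WittRGDD.mono_nX' i (inv_ne_zero ha))).congr
          fun x => TypeD.sg_sg i x⟩

end RowOPlus

theorem hasRow_POmegaPlus {F : Type} [Field F] [Finite F] [CharP F 2] {m : ℕ} (hm : 3 ≤ m) :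
    HasRow (Cfsg.POmega F (Cfsg.quadFormPlus m F)) := by
  obtain ⟨m, rfl⟩ : ∃ k, m = k + 2 := ⟨m - 2, by omega⟩
  exact RowOPlus.hasRow (by omega)

end Cfsg.Agent.Omega.Lie.End

end

-- merged: Cfsg.Agent.Mrg.Omega.Lie.End.RowTable
section

section


/-!
# The table of the K-side: the case split of `IsLieTypeChar 2`

`kTable_of` : `KTable` from the rows.
-/

set_option autoImplicit false

namespace Cfsg.Agent.Omega.Lie.End

universe u

/-- `IsPOmegaOddChar` has odd order, so it is empty in characteristic 2. -/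
theorem not_POmegaOdd {Y : Type*} [Group Y] : ¬ IsPOmegaOddChar 2 Y := by
  rintro ⟨F, _, _, _, m, -, hodd, -⟩
  have : Fact (Nat.Prime 2) := ⟨Nat.prime_two⟩
  obtain ⟨k, -, hk⟩ := FiniteField.card F 2
  rw [hk] at hodd
  exact absurd hodd (by rw [Nat.not_odd_iff_even]; exact (even_two).pow_of_ne_zero k.ne_zero)

/-- **The table from its rows.** -/
theorem kTable_of
    (hSp : ∀ (F : Type) [Field F] [Fintype F] [CharP F 2] (m : ℕ), 2 ≤ m → HasRow (PSp m F))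
    (hU : ∀ (F : Type) [Field F] [Fintype F] [CharP F 2] (n q : ℕ), Fintype.card F = q ^ 2 → 4 ≤ n →
      HasRow (PSU n F q))
    (hO : ∀ (F : Type) [Field F] [Fintype F] [CharP F 2] (m : ℕ) (a b : F), 3 ≤ m →
      (∀ z₁ z₂ : F, z₁ ^ 2 + a * z₁ * z₂ + b * z₂ ^ 2 = 0 → z₁ = 0 ∧ z₂ = 0) →
      HasRow (POmega F (quadFormMinus m F a b)))
    (hF4 : ∀ (F : Type) [Field F] [Finite F] [CharP F 2], HasRow ↥(Lie.chevF4.group F))
    (hE6 : ∀ (K : Type) [Field K] [Fintype K] [CharP K 2] (q : ℕ), IsPrimePow q → Fintype.card K = q ^ 2 →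
      HasRow ↥(Lie.twistedE6 K q))
    (hD4 : ∀ (K : Type) [Field K] [Fintype K] [CharP K 2] (q : ℕ), IsPrimePow q → Fintype.card K = q ^ 3 →
      HasRow ↥(Lie.twistedD4 K q)) : KTable.{u} := by
  intro Y _ _ _ hY
  rcases hY with h | h | h | h | h | h | h | h | h | h | h
  · obtain ⟨F, _, _, _, n, hn, h4, ⟨e⟩⟩ := h
    rcases Nat.lt_or_ge n 3 with h3 | h3
    · obtain rfl : n = 2 := by omega
      exact Or.inr (Or.inl ⟨F, inferInstance, inferInstance, inferInstance, h4 rfl, ⟨e⟩⟩)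
    · exact Or.inl ((hasRow_PSL (F := F) h3).of_equiv e.symm)
  · obtain ⟨F, _, _, _, m, hm, -, ⟨e⟩⟩ := h
    exact Or.inl ((hSp F m hm).of_equiv e.symm)
  · obtain ⟨F, _, _, _, n, q, hF, hn, hq, ⟨e⟩⟩ := h
    rcases Nat.lt_or_ge n 4 with h3 | h3
    · obtain rfl : n = 3 := by omega
      exact Or.inr (Or.inr (Or.inl ⟨F, inferInstance, inferInstance, inferInstance, q, hF,
        fun h2 => hq ⟨rfl, h2⟩, ⟨e⟩⟩))
    · exact Or.inl ((hU F n q hF h3).of_equiv e.symm)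
  · exact absurd h not_POmegaOdd
  · obtain ⟨F, _, _, _, m, hm, ⟨e⟩⟩ := h
    exact Or.inl ((hasRow_POmegaPlus (F := F) (show 3 ≤ m by omega)).of_equiv e.symm)
  · obtain ⟨F, _, _, _, m, a, b, hm, hab, ⟨e⟩⟩ := h
    exact Or.inl ((hO F (m - 1) a b (by omega) hab).of_equiv e.symm)
  · obtain ⟨F, _, _, _, h⟩ := h
    rcases h with ⟨-, ⟨e⟩⟩ | ⟨⟨e⟩⟩ | ⟨⟨e⟩⟩ | ⟨⟨e⟩⟩ | ⟨⟨e⟩⟩
    · exact Or.inl ((hasRow_G2 F).of_equiv e.symm)
    · exact Or.inl ((hF4 F).of_equiv e.symm)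
    · exact Or.inl ((hasRow_E6 F).of_equiv e.symm)
    · exact Or.inl ((hasRow_E7 F).of_equiv e.symm)
    · exact Or.inl ((hasRow_E8 F).of_equiv e.symm)
  · obtain ⟨K, _, _, _, q, hq, h⟩ := h
    rcases h with ⟨hK, ⟨e⟩⟩ | ⟨hK, ⟨e⟩⟩
    · exact Or.inl ((hE6 K q hq hK).of_equiv e.symm)
    · exact Or.inl ((hD4 K q hq hK).of_equiv e.symm)
  · exact Or.inr (Or.inr (Or.inr (Or.inl h.2)))
  · exact Or.inr (Or.inr (Or.inr (Or.inr h.2)))
  · exact absurd h.1 (by norm_num)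

end Cfsg.Agent.Omega.Lie.End

end

section


/-!
# The tori of the nodes of a Witt frame (KTable, PSU, POmega-, PSp)

`Fr` a Witt frame (form `H`, involution `σ`).

* `hx x y t = n_{x,y}(t) n_{x,y}(1)⁻¹`: `b x ↦ t b x`, `b (-y) ↦ t⁻¹ b (-y)`; `hx_conj_X`, `hx_conj_Z`;
* `hz x p p' = n_x(p) n_x(p')⁻¹`: `b x ↦ (p.c / p'.c) b x`; `hz_conj_X`, `hz_conj_Z`.
-/

set_option autoImplicit false
set_option linter.unusedSectionVars false

namespace Cfsg.Agent.Omega.Lie.End.KWitt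

open Cfsg.Agent.TitsThree.Siegel Cfsg.Agent.TitsThree.WittFrame Cfsg.Agent.TitsThree.WittWeyl

variable {F : Type*} [Field F] {V : Type*} [AddCommGroup V] [Module F V] {H : HForm F V} {ι : Type*}
  [DecidableEq ι] (Fr : Frame H ι)

theorem inv_apply_of {g : V ≃ₗ[F] V} {v w : V} {l : F} (hl : l ≠ 0) (h : g v = l • w) :
    g⁻¹ w = l⁻¹ • v := by
  have h1 : g⁻¹ (g v) = v := by
    rw [← mul_apply', inv_mul_cancel]
    rfl
  rw [h, map_smul] at h1
  rw [← h1, smul_smul, inv_mul_cancel₀ hl, one_smul]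

/-! ### Type I -/

/-- `n_{x,y}(t) n_{x,y}(1)⁻¹` -/
def hx (x y : ι × Bool) (t : F) : V ≃ₗ[F] V := nX Fr x y t * (nX Fr x y 1)⁻¹

section

variable {x y : ι × Bool} (h : x.1 ≠ y.1) {t : F} (ht : t ≠ 0)
include h

theorem hx_x (ht : t ≠ 0) : hx Fr x y t (Fr.b x) = t • Fr.b x := by
  have h1 : nX Fr x y 1 (Fr.b (neg y)) = (1 : F) • Fr.b x := nX_apply_neg Fr h one_ne_zero
  rw [hx, mul_apply', inv_apply_of one_ne_zero h1, map_smul, nX_apply_neg Fr h ht, inv_one, one_smul]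

theorem hx_negy (ht : t ≠ 0) : hx Fr x y t (Fr.b (neg y)) = t⁻¹ • Fr.b (neg y) := by
  have h1 : nX Fr x y 1 (Fr.b x) = (-1 : F) • Fr.b (neg y) := by
    rw [nX_apply_self Fr h one_ne_zero, inv_one, one_smul, neg_smul, one_smul]
  rw [hx, mul_apply', inv_apply_of (neg_ne_zero.2 one_ne_zero) h1, map_smul, nX_apply_self Fr h ht, ← neg_smul,
    smul_smul]
  congr 1
  rw [inv_neg, inv_one, neg_mul_neg, one_mul]

theorem hx_y (ht : t ≠ 0) : hx Fr x y t (Fr.b y) = H.σ t • Fr.b y := by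
  have h2 := Fr.η_ne x
  have h3 := Fr.η_ne y
  have h4 := H.ε_ne
  have hσ : H.σ t ≠ 0 := by simpa using ht
  have h1 : nX Fr x y 1 (Fr.b (neg x)) = (-(H.ε⁻¹ * Fr.η x * Fr.η y)) • Fr.b y := by
    rw [nX_apply_neg' Fr h one_ne_zero, map_one, mul_one, neg_smul]
  have h5 : -(H.ε⁻¹ * Fr.η x * Fr.η y) ≠ 0 :=
    neg_ne_zero.2 (mul_ne_zero (mul_ne_zero (inv_ne_zero h4) h2) h3)
  rw [hx, mul_apply', inv_apply_of h5 h1, map_smul, nX_apply_neg' Fr h ht, ← neg_smul, smul_smul]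
  congr 1
  field_simp

theorem hx_negx (ht : t ≠ 0) : hx Fr x y t (Fr.b (neg x)) = (H.σ t)⁻¹ • Fr.b (neg x) := by
  have h2 := Fr.η_ne x
  have h3 := Fr.η_ne y
  have h4 := H.ε_ne
  have hσ : H.σ t ≠ 0 := by simpa using ht
  have h5 : (H.ε⁻¹ * Fr.η x * Fr.η y)⁻¹ ≠ 0 :=
    inv_ne_zero (mul_ne_zero (mul_ne_zero (inv_ne_zero h4) h2) h3)
  have h1 : nX Fr x y 1 (Fr.b y) = (H.ε⁻¹ * Fr.η x * Fr.η y)⁻¹ • Fr.b (neg x) := by
    rw [nX_apply_self' Fr h one_ne_zero, map_one, mul_one]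
  rw [hx, mul_apply', inv_apply_of h5 h1, map_smul, nX_apply_self' Fr h ht, smul_smul]
  congr 1
  field_simp

theorem hx_ne {z : ι × Bool} (h1 : z.1 ≠ x.1) (h2 : z.1 ≠ y.1) : hx Fr x y t (Fr.b z) = Fr.b z := by
  have h3 : nX Fr x y 1 (Fr.b z) = (1 : F) • Fr.b z := by rw [nX_apply_of_ne Fr h h1 h2, one_smul]
  rw [hx, mul_apply', inv_apply_of one_ne_zero h3, inv_one, one_smul, nX_apply_of_ne Fr h h1 h2]

theorem hx_V0 {v : V} (hv : v ∈ Fr.V0) : hx Fr x y t v = v := by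
  have h3 : nX Fr x y 1 v = (1 : F) • v := by rw [nX_apply_V0 Fr h hv, one_smul]
  rw [hx, mul_apply', inv_apply_of one_ne_zero h3, inv_one, one_smul, nX_apply_V0 Fr h hv]

omit h in
theorem isIso_hx : H.IsIso (hx Fr x y t) :=
  HForm.IsIso.mul H (isIso_nX Fr _ _ _) (HForm.IsIso.inv H (isIso_nX Fr _ _ _))

theorem hx_conj_X (ht : t ≠ 0) (s : F) : hx Fr x y t * Fr.X x y s * (hx Fr x y t)⁻¹ = Fr.X x y (t ^ 2 * s) := by
  rw [conj_X Fr (isIso_hx Fr) h h (hx_x Fr h ht) (hx_y Fr h ht)]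
  have h2 := Fr.η_ne y
  congr 1
  rw [H.σσ]
  field_simp

theorem hx_conj_Z (ht : t ≠ 0) (p : Fr.Adm) : hx Fr x y t * Fr.Z (neg y) p * (hx Fr x y t)⁻¹ =
    Fr.Z (neg y) (Frame.Adm.smul (H.σ t)⁻¹ p) := by
  rw [conj_Z Fr (isIso_hx Fr) (hx_negy Fr h ht) p p (hx_V0 Fr h (Fr.ok_mem p.ok)) rfl, map_inv₀]

end

/-! ### Type II -/

/-- `n_x(p) n_x(p')⁻¹` -/
def hz (x : ι × Bool) (p p' : Fr.Adm) : V ≃ₗ[F] V := nZ Fr x p * (nZ Fr x p')⁻¹

section

variable {x : ι × Bool} {p p' : Fr.Adm}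

theorem hz_x (hp : p.c ≠ 0) (hp' : p'.c ≠ 0) : hz Fr x p p' (Fr.b x) = (p.c * p'.c⁻¹) • Fr.b x := by
  have h2 := Fr.η_ne x
  rw [hz, mul_apply', inv_apply_of (mul_ne_zero h2 hp') (nZ_apply_neg Fr x p' hp'), map_smul,
    nZ_apply_neg Fr x p hp, smul_smul]
  congr 1
  field_simp

theorem hz_negx (hp : p.c ≠ 0) (hp' : p'.c ≠ 0) :
    hz Fr x p p' (Fr.b (neg x)) = (H.σ p'.c * (H.σ p.c)⁻¹) • Fr.b (neg x) := by
  have h2 := Fr.η_ne x
  have h4 := H.ε_ne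
  have hσ : H.σ p.c ≠ 0 := by simpa using hp
  have hσ' : H.σ p'.c ≠ 0 := by simpa using hp'
  have h5 : H.ε * (Fr.η x)⁻¹ * (H.σ p'.c)⁻¹ ≠ 0 :=
    mul_ne_zero (mul_ne_zero h4 (inv_ne_zero h2)) (inv_ne_zero hσ')
  rw [hz, mul_apply', inv_apply_of h5 (nZ_apply_self Fr x p' hp'), map_smul, nZ_apply_self Fr x p hp, smul_smul]
  congr 1
  field_simp

theorem hz_ne {z : ι × Bool} (h : z.1 ≠ x.1) : hz Fr x p p' (Fr.b z) = Fr.b z := by
  have h3 : nZ Fr x p' (Fr.b z) = (1 : F) • Fr.b z := by rw [nZ_apply_of_ne Fr h, one_smul]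
  rw [hz, mul_apply', inv_apply_of one_ne_zero h3, inv_one, one_smul, nZ_apply_of_ne Fr h]

theorem isIso_hz : H.IsIso (hz Fr x p p') :=
  HForm.IsIso.mul H (isIso_nZ Fr _ _) (HForm.IsIso.inv H (isIso_nZ Fr _ _))

/-- the action on the root group `X y (-x)` -/
theorem hz_conj_X (hp : p.c ≠ 0) (hp' : p'.c ≠ 0) {y : ι × Bool} (h : y.1 ≠ x.1) (s : F) :
    hz Fr x p p' * Fr.X y (neg x) s * (hz Fr x p p')⁻¹ = Fr.X y (neg x) (p.c⁻¹ * p'.c * s) := by
  have h' : y.1 ≠ (neg x).1 := h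
  have h1 : hz Fr x p p' (Fr.b y) = (1 : F) • Fr.b y := by rw [hz_ne Fr h, one_smul]
  rw [conj_X Fr (isIso_hz Fr) h' h' h1 (hz_negx Fr hp hp')]
  have h2 := Fr.η_ne (neg x)
  congr 1
  rw [map_mul, map_inv₀, H.σσ, H.σσ]
  field_simp

/-- the action on the root group `Z x` -/
theorem hz_conj_Z (hp : p.c ≠ 0) (hp' : p'.c ≠ 0) (r q : Fr.Adm) (hw : hz Fr x p p' r.w = q.w) (hc : r.c = q.c) :
    hz Fr x p p' * Fr.Z x r * (hz Fr x p p')⁻¹ = Fr.Z x (Frame.Adm.smul (H.σ (p.c * p'.c⁻¹)) q) :=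
  conj_Z Fr (isIso_hz Fr) (hz_x Fr hp hp') r q hw hc

/-- `n_x(λ p) n_x(p)⁻¹` acts trivially on `V0` -/
theorem hz_smul_V0 {l : F} (hl : l ≠ 0) (hp : p.c ≠ 0) {v : V} (hv : v ∈ Fr.V0) :
    hz Fr x (Frame.Adm.smul l p) p v = v := by
  have hσ : H.σ l ≠ 0 := by simpa using hl
  have hc : (Frame.Adm.smul l p : Fr.Adm).c ≠ 0 := mul_ne_zero (mul_ne_zero hl hσ) hp
  -- the two reflections agree
  have key : ∀ w ∈ Fr.V0, nZ Fr x (Frame.Adm.smul l p) w = nZ Fr x p w := by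
    intro w hw
    rw [nZ_apply_V0 Fr x _ hc hw, nZ_apply_V0 Fr x _ hp hw, Frame.Adm.smul_w, Frame.Adm.smul_c, H.smul_right,
      smul_smul]
    congr 2
    field_simp
  have hmem : ∀ w ∈ Fr.V0, nZ Fr x p w ∈ Fr.V0 := by
    intro w hw
    rw [nZ_apply_V0 Fr x _ hp hw]
    exact Fr.V0.add_mem hw (Fr.V0.smul_mem _ (Fr.ok_mem p.ok))
  -- `nZ` preserves `V0`
  have hsurj : ∃ w ∈ Fr.V0, nZ Fr x p w = v := by
    -- the inverse reflection
    have hh : H.h p.w p.w = -(H.ε * p.c + H.σ p.c) := by rw [p.herm, _root_.neg_neg]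
    have h5 := H.ε_ne
    have hσp : H.σ p.c ≠ 0 := by simpa using hp
    refine ⟨v + ((H.σ p.c)⁻¹ * H.h v p.w) • p.w, Fr.V0.add_mem hv (Fr.V0.smul_mem _ (Fr.ok_mem p.ok)), ?_⟩
    rw [nZ_apply_V0 Fr x _ hp (Fr.V0.add_mem hv (Fr.V0.smul_mem _ (Fr.ok_mem p.ok))), H.add_left, H.smul_left, hh]
    match_scalars
    · ring
    · field_simp
      ring
  obtain ⟨w, hw, hwv⟩ := hsurj
  rw [hz, mul_apply']
  have h1 : (nZ Fr x p)⁻¹ v = w := by
    rw [← hwv, ← mul_apply', inv_mul_cancel]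
    rfl
  rw [h1, key w hw, hwv]

end

end Cfsg.Agent.Omega.Lie.End.KWitt

end

section


/-!
# `KRow` for the groups modelled on a Witt frame, characteristic two
-/

set_option autoImplicit false
set_option linter.unusedSectionVars false

namespace Cfsg.Agent.Omega.Lie.End.KWittRow

open CoxeterSystem Cfsg.Agent.ChevalleyStructure.CoxeterGeom Cfsg.Agent.Tits.Roots Cfsg.Agent.Nodes.TypeC
open Cfsg.Agent.Nodes.Comb Cfsg.Agent.Nodes.Reps Cfsg.Agent.Nodes.WittRoot Cfsg.Agent.Nodes.BNOf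
open Cfsg.Agent.Nodes Cfsg.Agent.Nodes.WittAll
open Cfsg.Agent.Nodes.WittRGD (Tor mem_Tor mono_nX mono_nZ nn b_ne_zero rg_sr rg_neg_sr)
open Cfsg.Agent.TitsThree Cfsg.Agent.TitsThree.Siegel Cfsg.Agent.TitsThree.WittFrame
  Cfsg.Agent.TitsThree.WittWeyl Cfsg.Agent.TitsThree.FrameCN
open Cfsg.Agent.Omega.Lie.End.KWitt
open scoped commutatorElement

variable {F : Type*} [Field F] {V : Type*} [AddCommGroup V] [Module F V] {H : HForm F V} {n : ℕ}
  {Fr : Frame H (Fin n)}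

/-! ### membership -/

theorem ne_nx {i : Fin n} (hi : (i : ℕ) + 1 < n) : ((i, true) : Fin n × Bool).1 ≠ (nx i).1 := by
  unfold nx; rw [dif_pos hi]; simp [Fin.ext_iff]

theorem nx_of {i : Fin n} (hi : (i : ℕ) + 1 < n) : nx i = (⟨i + 1, hi⟩, false) := by
  unfold nx; rw [dif_pos hi]

theorem nx_last {i : Fin n} (hi : ¬ (i : ℕ) + 1 < n) : nx i = (i, true) := by
  unfold nx; rw [dif_neg hi]

theorem nX_mem_sup {i : Fin n} (hi : (i : ℕ) + 1 < n) (t : F) :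
    nX Fr (i, true) (nx i) t ∈ rg Fr (sr i) ⊔ rg Fr (-sr i) := by
  have hne' := ne_nx hi
  rw [rg_sr, rg_neg_sr]
  rw [PG_ne Fr (a := ng (i, true)) (b := ng (nx i)) hne', XG_swap Fr (a := ng (i, true)) (b := ng (nx i)) hne',
    PG_ne Fr hne']
  have h1 : ∀ t, Fr.X (i, true) (nx i) t ∈ XG Fr (i, true) (nx i) ⊔ XG Fr (ng (nx i)) (ng (i, true)) :=
    fun t => (le_sup_left : _ ≤ XG Fr (i, true) (nx i) ⊔ XG Fr (ng (nx i)) (ng (i, true))) ⟨t, rfl⟩
  exact mul_mem (mul_mem (h1 _) ((le_sup_right : XG Fr (ng (nx i)) (ng (i, true)) ≤ _) ⟨_, rfl⟩)) (h1 _)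

theorem nZ_mem_sup {i : Fin n} (hi : ¬ (i : ℕ) + 1 < n) (p : Fr.Adm) :
    nZ Fr (i, true) p ∈ rg Fr (sr i) ⊔ rg Fr (-sr i) := by
  rw [rg_sr, rg_neg_sr, nx_last hi, PG_self, PG_self]
  have h1 : ∀ t, Fr.Z (i, true) t ∈ ZG Fr (i, true) ⊔ ZG Fr (ng (i, true)) :=
    fun t => (le_sup_left : _ ≤ ZG Fr (i, true) ⊔ ZG Fr (ng (i, true))) ⟨t, rfl⟩
  exact mul_mem (mul_mem (h1 _) ((le_sup_right : ZG Fr (ng (i, true)) ≤ _) ⟨_, rfl⟩)) (h1 _)

theorem hx_mem_sup {i : Fin n} (hi : (i : ℕ) + 1 < n) (t : F) :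
    hx Fr (i, true) (nx i) t ∈ rg Fr (sr i) ⊔ rg Fr (-sr i) :=
  mul_mem (nX_mem_sup hi t) (inv_mem (nX_mem_sup hi 1))

theorem hz_mem_sup {i : Fin n} (hi : ¬ (i : ℕ) + 1 < n) (p p' : Fr.Adm) :
    hz Fr (i, true) p p' ∈ rg Fr (sr i) ⊔ rg Fr (-sr i) :=
  mul_mem (nZ_mem_sup hi p) (inv_mem (nZ_mem_sup hi p'))

theorem mono_hx {i : Fin n} (hi : (i : ℕ) + 1 < n) {t : F} (ht : t ≠ 0) :
    Mono Fr (hx Fr (i, true) (nx i) t) id :=
  ((mono_nX hi ht).mul ((mono_nX hi one_ne_zero).inv (sg_sg i))).congr fun x => sg_sg i x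

theorem mono_hz {i : Fin n} (hi : ¬ (i : ℕ) + 1 < n) {p p' : Fr.Adm} (hp : p.c ≠ 0) (hp' : p'.c ≠ 0) :
    Mono Fr (hz Fr (i, true) p p') id :=
  ((mono_nZ hi hp).mul ((mono_nZ hi hp').inv (sg_sg i))).congr fun x => sg_sg i x

/-! ### the model -/

variable {K : Type*} [Group K] (M : Model Fr K)

theorem inj_X {x y : Fin n × Bool} (hxy : x.1 ≠ y.1) {s : F} (hs : M.φ ⟨Fr.X x y s, M.hX _ _ _⟩ = 1) : s = 0 := by
  obtain ⟨a, ha⟩ := M.ker (Fr.b (neg y)) _ hs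
  change Fr.X x y s (Fr.b (neg y)) = a • Fr.b (neg y) at ha
  rw [X_apply_neg Fr hxy] at ha
  have h1 : (s : F) • Fr.b x = (a - 1) • Fr.b (neg y) := by
    rw [sub_smul, one_smul, ← ha]
    abel
  have h2 := congrArg (fun v => H.h v (Fr.b (neg x))) h1
  simp only [H.smul_left] at h2
  rw [Fr.hb_self_neg, Fr.hb_of_ne (x := neg y) (y := neg x) hxy.symm, mul_zero] at h2
  exact (mul_eq_zero.1 h2).resolve_right (Fr.η_ne _)

theorem inj_Z {x : Fin n × Bool} {p : Fr.Adm} (hs : M.φ ⟨Fr.Z x p, M.hZ _ _⟩ = 1) : p = 1 := by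
  obtain ⟨a, ha⟩ := M.ker (Fr.b (neg x)) _ hs
  change Fr.Z x p (Fr.b (neg x)) = a • Fr.b (neg x) at ha
  have hηn := Fr.η_ne (neg x)
  have hη := Fr.η_ne x
  have hpm := Fr.ok_mem p.ok
  rw [Z_apply_neg] at ha
  have h1 := congrArg (fun v => H.h v (Fr.b (neg x))) ha
  simp only [H.add_left, H.smul_left] at h1
  have h0 : H.h (Fr.b (neg x)) (Fr.b (neg x)) = 0 := Fr.hb_self _
  rw [h0, Fr.h0' _ hpm, Fr.hb_self_neg, mul_zero, mul_zero, zero_add, zero_add] at h1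
  have hc : p.c = 0 := by
    rcases mul_eq_zero.1 h1 with h2 | h2
    · exact (mul_eq_zero.1 h2).resolve_right hη
    · exact absurd h2 hηn
  have h2 := congrArg (fun v => H.h v (Fr.b x)) ha
  simp only [H.add_left, H.smul_left] at h2
  rw [Fr.hb_neg_self, Fr.h0' _ hpm, Fr.hb_self, mul_zero, mul_zero, add_zero, add_zero] at h2
  have ha1 : a = 1 := by
    have h3 : (a - 1) * Fr.η x = 0 := by rw [sub_mul, one_mul, ← h2, sub_self]
    exact sub_eq_zero.1 ((mul_eq_zero.1 h3).resolve_right hη)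
  rw [ha1, hc, zero_mul, zero_smul, add_zero, one_smul] at ha
  have hw : p.w = 0 := by
    have h3 : Fr.η x • p.w = 0 := by
      have h4 := congrArg (fun v => v - Fr.b (neg x)) ha
      simpa using h4
    exact (smul_eq_zero.1 h3).resolve_left hη
  exact Frame.Adm.ext hw hc

variable {M}

theorem phi_conj {g u u' : V ≃ₗ[F] V} (hg : g ∈ M.I) (hu : u ∈ M.I) (hu' : u' ∈ M.I) (e : g * u * g⁻¹ = u') :
    M.φ ⟨g, hg⟩ * M.φ ⟨u, hu⟩ * (M.φ ⟨g, hg⟩)⁻¹ = M.φ ⟨u', hu'⟩ := by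
  rw [← map_inv, ← map_mul, ← map_mul]
  congr 1
  exact Subtype.ext e

theorem phi_inj_X {x y : Fin n × Bool} (hxy : x.1 ≠ y.1) {s s' : F}
    (hs : M.φ ⟨Fr.X x y s, M.hX _ _ _⟩ = M.φ ⟨Fr.X x y s', M.hX _ _ _⟩) : s = s' := by
  have h1 : M.φ ⟨Fr.X x y (s + -s'), M.hX _ _ _⟩ = 1 := by
    have h2 : (⟨Fr.X x y (s + -s'), M.hX _ _ _⟩ : M.I) = ⟨Fr.X x y s, M.hX _ _ _⟩ * (⟨Fr.X x y s', M.hX _ _ _⟩)⁻¹ :=
      Subtype.ext (by
        change Fr.X x y (s + -s') = Fr.X x y s * (Fr.X x y s')⁻¹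
        rw [Fr.X_add, Fr.X_neg])
    rw [h2, map_mul, map_inv, hs, mul_inv_cancel]
  have h2 := inj_X M hxy h1
  rwa [add_neg_eq_zero] at h2

theorem phi_inj_Z {x : Fin n × Bool} {p q : Fr.Adm}
    (hs : M.φ ⟨Fr.Z x p, M.hZ _ _⟩ = M.φ ⟨Fr.Z x q, M.hZ _ _⟩) : p = q := by
  have h1 : M.φ ⟨Fr.Z x (p * q⁻¹), M.hZ _ _⟩ = 1 := by
    have h2 : (⟨Fr.Z x (p * q⁻¹), M.hZ _ _⟩ : M.I) = ⟨Fr.Z x p, M.hZ _ _⟩ * (⟨Fr.Z x q, M.hZ _ _⟩)⁻¹ :=
      Subtype.ext (by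
        change Fr.Z x (p * q⁻¹) = Fr.Z x p * (Fr.Z x q)⁻¹
        rw [Fr.Z_mul, Fr.Z_inv])
    rw [h2, map_mul, map_inv, hs, mul_inv_cancel]
  exact mul_inv_eq_one.1 (inj_Z M h1)

theorem mem_T {g : V ≃ₗ[F] V} (hg : g ∈ M.I) (hm : Mono Fr g id) : M.φ ⟨g, hg⟩ ∈ WittModel.T M :=
  Subgroup.mem_map_of_mem _ (Subgroup.mem_subgroupOf.2 ⟨hg, hm⟩)

variable {p : ℕ} (hA : AmbT Fr p M.I)
include hA

theorem mem_TL {i : Fin n} {g : V ≃ₗ[F] V} (hg : g ∈ M.I) (hm : Mono Fr g id)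
    (hs : g ∈ rg Fr (sr i) ⊔ rg Fr (-sr i)) : M.φ ⟨g, hg⟩ ∈ TL (WittModel.T M) (WittModel.X M) i := by
  refine ⟨mem_T hg hm, ?_⟩
  unfold WittModel.X
  rw [← Subgroup.map_sup, ← Subgroup.subgroupOf_sup (hA.rg_le _) (hA.rg_le _)]
  exact Subgroup.mem_map_of_mem _ (Subgroup.mem_subgroupOf.2 hs)

omit hA in
theorem mem_X_one {i : Fin n} (hi : (i : ℕ) + 1 < n) {k : K} :
    k ∈ WittModel.X M (sr i) ↔ ∃ s, k = M.φ ⟨Fr.X (i, true) (nx i) s, M.hX _ _ _⟩ := by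
  rw [WittModel.mem_X]
  constructor
  · rintro ⟨g, hg, h, rfl⟩
    rw [rg_sr, PG_ne Fr (ne_nx hi)] at h
    obtain ⟨s, rfl⟩ := h
    exact ⟨s, rfl⟩
  · rintro ⟨s, rfl⟩
    refine ⟨_, M.hX _ _ _, ?_, rfl⟩
    rw [rg_sr, PG_ne Fr (ne_nx hi)]
    exact ⟨s, rfl⟩

omit hA in
theorem mem_X_two {i : Fin n} (hi : ¬ (i : ℕ) + 1 < n) {k : K} :
    k ∈ WittModel.X M (sr i) ↔ ∃ r, k = M.φ ⟨Fr.Z (i, true) r, M.hZ _ _⟩ := by
  rw [WittModel.mem_X]
  constructor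
  · rintro ⟨g, hg, h, rfl⟩
    rw [rg_sr, nx_last hi, PG_self] at h
    obtain ⟨s, rfl⟩ := h
    exact ⟨s, rfl⟩
  · rintro ⟨s, rfl⟩
    refine ⟨_, M.hZ _ _, ?_, rfl⟩
    rw [rg_sr, nx_last hi, PG_self]
    exact ⟨s, rfl⟩

theorem hx_mem {x y : Fin n × Bool} {t : F} : hx Fr x y t ∈ M.I :=
  mul_mem (nX_mem hA _ _ _) (inv_mem (nX_mem hA _ _ _))

theorem hz_mem {x : Fin n × Bool} {p p' : Fr.Adm} : hz Fr x p p' ∈ M.I :=
  mul_mem (nZ_mem hA _ _) (inv_mem (nZ_mem hA _ _))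

/-! ### the facts -/

omit hA in
theorem X_ne_zero {x y : Fin n × Bool} {s : F} (h : M.φ ⟨Fr.X x y s, M.hX _ _ _⟩ ≠ 1) : s ≠ 0 := by
  rintro rfl
  apply h
  have : (⟨Fr.X x y 0, M.hX _ _ _⟩ : M.I) = 1 := Subtype.ext (Fr.X_zero _ _)
  rw [this, map_one]

omit hA in
theorem Z_ne_one {x : Fin n × Bool} {r : Fr.Adm} (h : M.φ ⟨Fr.Z x r, M.hZ _ _⟩ ≠ 1) : r ≠ 1 := by
  rintro rfl
  apply h
  have : (⟨Fr.Z x 1, M.hZ _ _⟩ : M.I) = 1 := Subtype.ext (Fr.Z_one _)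
  rw [this, map_one]

omit hA in
theorem X_eq_one {x y : Fin n × Bool} {s : F} (h : s = 0) : M.φ ⟨Fr.X x y s, M.hX _ _ _⟩ = 1 := by
  subst h
  have : (⟨Fr.X x y 0, M.hX _ _ _⟩ : M.I) = 1 := Subtype.ext (Fr.X_zero _ _)
  rw [this, map_one]

omit hA in
theorem Z_eq_one {x : Fin n × Bool} {r : Fr.Adm} (h : r = 1) : M.φ ⟨Fr.Z x r, M.hZ _ _⟩ = 1 := by
  subst h
  have : (⟨Fr.Z x 1, M.hZ _ _⟩ : M.I) = 1 := Subtype.ext (Fr.Z_one _)
  rw [this, map_one]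

omit hA in
/-- `l r = r` implies `r = 1` if `l ≠ 1`, `σ l = l`, characteristic two -/
theorem smul_eq_self [CharP F 2] {l : F} (hl : l ≠ 1) (hσ : H.σ l = l) {r : Fr.Adm}
    (h : Frame.Adm.smul l r = r) : r = 1 := by
  have h1 : (l - 1) • r.w = 0 := by
    rw [sub_smul, one_smul, sub_eq_zero]
    exact congrArg Frame.Adm.w h
  have h2 : (l * l - 1) * r.c = 0 := by
    rw [sub_mul, one_mul, sub_eq_zero]
    have := congrArg Frame.Adm.c h
    rw [Frame.Adm.smul_c, hσ] at this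
    exact this
  have h3 : l - 1 ≠ 0 := sub_ne_zero.2 hl
  have h4 : l * l - 1 ≠ 0 := by
    have h5 : l * l - 1 = (l - 1) * (l - 1) := by
      have : (2 : F) = 0 := CharTwo.two_eq_zero
      linear_combination (-1 + l) * this
    rw [h5]
    exact mul_ne_zero h3 h3
  exact Frame.Adm.ext ((smul_eq_zero.1 h1).resolve_left h3) ((mul_eq_zero.1 h2).resolve_left h4)

section facts

variable {i j : Fin n} (hi : (i : ℕ) + 1 < n) (hj : ¬ (j : ℕ) + 1 < n) (hij : (i : ℕ) + 1 = j)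

include hi in
/-- the own torus of a type I node -/
theorem own_one [Finite F] [CharP F 2] :
    TrOn (TL (WittModel.T M) (WittModel.X M) i) (WittModel.X M (sr i)) := by
  intro x hx1 hx2 y hy1 hy2
  obtain ⟨s, rfl⟩ := (mem_X_one hi).1 hx1
  obtain ⟨s', rfl⟩ := (mem_X_one hi).1 hy1
  have hs := X_ne_zero hx2
  have hs' := X_ne_zero hy2
  obtain ⟨t, ht⟩ : IsSquare (s' * s⁻¹) := FiniteField.isSquare_of_char_two (ringChar.eq F 2) _
  have ht0 : t ≠ 0 := by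
    rintro rfl
    rw [mul_zero] at ht
    exact (mul_ne_zero hs' (inv_ne_zero hs)) ht
  refine ⟨M.φ ⟨hx Fr (i, true) (nx i) t, hx_mem hA⟩, mem_TL hA _ (mono_hx hi ht0) (hx_mem_sup hi t), ?_⟩
  refine phi_conj _ _ (M.hX _ _ _) ?_
  rw [hx_conj_X Fr (ne_nx hi) ht0]
  congr 1
  rw [pow_two, ← ht, mul_assoc, inv_mul_cancel₀ hs, mul_one]

include hi hj hij

omit hA hi in
theorem nx_eq (hi : (i : ℕ) + 1 < n) : nx i = neg (j, true) := by
  rw [nx_of hi]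
  have : (⟨(i : ℕ) + 1, hi⟩ : Fin n) = j := Fin.ext hij
  rw [this]
  rfl

omit hA hj in
theorem fst_ne : ((i, true) : Fin n × Bool).1 ≠ ((j, true) : Fin n × Bool).1 := by
  intro h
  have : (i : ℕ) = j := congrArg Fin.val h
  omega

omit hA in
/-- `h_j(p, p')` on `X i` -/
theorem hz_on_X {p p' : Fr.Adm} (hp : p.c ≠ 0) (hp' : p'.c ≠ 0) (s : F) :
    hz Fr (j, true) p p' * Fr.X (i, true) (nx i) s * (hz Fr (j, true) p p')⁻¹ =
      Fr.X (i, true) (nx i) (p.c⁻¹ * p'.c * s) := by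
  rw [nx_eq hj hij hi]
  exact hz_conj_X Fr hp hp' (fst_ne hi hij) s

omit hA in
/-- `h_i(t)` on `X j` -/
theorem hx_on_Z {t : F} (ht : t ≠ 0) (r : Fr.Adm) :
    hx Fr (i, true) (nx i) t * Fr.Z (j, true) r * (hx Fr (i, true) (nx i) t)⁻¹ =
      Fr.Z (j, true) (Frame.Adm.smul (H.σ t)⁻¹ r) := by
  have h1 : ((j, true) : Fin n × Bool) = neg (nx i) := by rw [nx_eq hj hij hi, WittFrame.neg_neg]
  rw [h1]
  exact hx_conj_Z Fr (ne_nx hi) ht r

omit hA in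
/-- `h_j(l p, p)` on `X j` -/
theorem hz_on_Z {l : F} (hl : l ≠ 0) {p : Fr.Adm} (hp : p.c ≠ 0) (r : Fr.Adm) :
    hz Fr (j, true) (Frame.Adm.smul l p) p * Fr.Z (j, true) r * (hz Fr (j, true) (Frame.Adm.smul l p) p)⁻¹ =
      Fr.Z (j, true) (Frame.Adm.smul (l * H.σ l) r) := by
  have hσ : H.σ l ≠ 0 := by simpa using hl
  have hc : (Frame.Adm.smul l p : Fr.Adm).c ≠ 0 := mul_ne_zero (mul_ne_zero hl hσ) hp
  rw [hz_conj_Z Fr hc hp r r (hz_smul_V0 Fr hl hp (Fr.ok_mem r.ok)) rfl]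
  congr 2
  rw [Frame.Adm.smul_c, map_mul, map_mul, map_mul, map_inv₀, H.σσ]
  have : H.σ p.c ≠ 0 := by simpa using hp
  field_simp

/-- `FpOn`: the torus of the last node on `X i` -/
theorem fp_one [CharP F 2] {p0 : Fr.Adm} (hp0 : p0.c ≠ 0) {t : F} (ht0 : t ≠ 0) (ht1 : t ≠ 1) (hσt : H.σ t = t) :
    FpOn (TL (WittModel.T M) (WittModel.X M) j) (WittModel.X M (sr i)) := by
  have hc : (Frame.Adm.smul t p0 : Fr.Adm).c ≠ 0 := by
    rw [Frame.Adm.smul_c, hσt]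
    exact mul_ne_zero (mul_ne_zero ht0 ht0) hp0
  refine ⟨M.φ ⟨hz Fr (j, true) (Frame.Adm.smul t p0) p0, hz_mem hA⟩,
    mem_TL hA _ (mono_hz hj hc hp0) (hz_mem_sup hj _ _), ?_⟩
  intro x hx1 hx2
  obtain ⟨s, rfl⟩ := (mem_X_one hi).1 hx1
  rw [phi_conj (hz_mem hA) _ (M.hX _ _ _) (hz_on_X hi hj hij hc hp0 s)] at hx2
  have h1 := phi_inj_X (ne_nx hi) hx2
  apply X_eq_one
  rw [Frame.Adm.smul_c, hσt] at h1
  have h2 : (t * t * p0.c)⁻¹ * p0.c = (t * t)⁻¹ := by field_simp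
  rw [h2] at h1
  have h3 : (t * t - 1) * s = 0 := by
    have h4 : s = t * t * s := by
      conv_rhs => rw [← h1]
      field_simp
    rw [sub_mul, one_mul, ← h4, sub_self]
  have h5 : t * t - 1 = (t - 1) * (t - 1) := by
    have : (2 : F) = 0 := CharTwo.two_eq_zero
    linear_combination (-1 + t) * this
  rw [h5] at h3
  exact (mul_eq_zero.1 h3).resolve_left (mul_ne_zero (sub_ne_zero.2 ht1) (sub_ne_zero.2 ht1))

/-- `FpOn`: the torus of the node `i` on `X j` -/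
theorem fp_two [CharP F 2] {t : F} (ht0 : t ≠ 0) (ht1 : t ≠ 1) (hσt : H.σ t = t) :
    FpOn (TL (WittModel.T M) (WittModel.X M) i) (WittModel.X M (sr j)) := by
  refine ⟨M.φ ⟨hx Fr (i, true) (nx i) t, hx_mem hA⟩, mem_TL hA _ (mono_hx hi ht0) (hx_mem_sup hi _), ?_⟩
  intro x hx1 hx2
  obtain ⟨r, rfl⟩ := (mem_X_two hj).1 hx1
  rw [phi_conj (hx_mem hA) _ (M.hZ _ _) (hx_on_Z hi hj hij ht0 r)] at hx2
  have h1 := phi_inj_Z hx2
  rw [hσt] at h1
  apply Z_eq_one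
  refine smul_eq_self (l := t⁻¹) ?_ (by rw [map_inv₀, hσt]) h1
  intro h2
  exact ht1 (inv_eq_one.1 h2)

/-- `SpOn` -/
theorem sp_one [CharP F 2] {p0 : Fr.Adm} (hp0 : p0.c ≠ 0) {t : F} (ht0 : t ≠ 0) (ht1 : t ≠ 1) (hσt : H.σ t = t) :
    SpOn (WittModel.T M) (WittModel.X M (sr i)) (WittModel.X M (sr j)) := by
  have hc : (Frame.Adm.smul t p0 : Fr.Adm).c ≠ 0 := by
    rw [Frame.Adm.smul_c, hσt]
    exact mul_ne_zero (mul_ne_zero ht0 ht0) hp0
  refine ⟨M.φ ⟨hx Fr (i, true) (nx i) t, hx_mem hA⟩ * M.φ ⟨hz Fr (j, true) (Frame.Adm.smul t p0) p0, hz_mem hA⟩,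
    mul_mem (mem_T _ (mono_hx hi ht0)) (mem_T _ (mono_hz hj hc hp0)), ?_, ?_⟩
  · intro x hx1
    obtain ⟨s, rfl⟩ := (mem_X_one hi).1 hx1
    rw [mul_inv_rev]
    have e : ∀ a b x : K, a * b * x * (b⁻¹ * a⁻¹) = a * (b * x * b⁻¹) * a⁻¹ := fun a b x => by group
    rw [e, phi_conj (hz_mem hA) _ (M.hX _ _ _) (hz_on_X hi hj hij hc hp0 s),
      phi_conj (hx_mem hA) _ (M.hX _ _ _) (hx_conj_X Fr (ne_nx hi) ht0 _)]
    congr 3
    rw [Frame.Adm.smul_c, hσt]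
    field_simp
  · intro x hx1
    obtain ⟨r, rfl⟩ := (mem_X_two hj).1 hx1
    rw [mul_inv_rev]
    have e : ∀ a b x : K, a * b * x * (b⁻¹ * a⁻¹) = a * (b * x * b⁻¹) * a⁻¹ := fun a b x => by group
    rw [e, phi_conj (hz_mem hA) _ (M.hZ _ _) (hz_on_Z hi hj hij ht0 hp0 r),
      phi_conj (hx_mem hA) _ (M.hZ _ _) (hx_on_Z hi hj hij ht0 _)]
    intro h1
    apply Z_eq_one
    have h2 := phi_inj_Z h1
    rw [Frame.Adm.smul_smul, hσt] at h2
    have h3 : t⁻¹ * (t * t) = t := by field_simp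
    rw [h3] at h2
    exact smul_eq_self ht1 hσt h2

/-- `TrOn`: the torus of the last node on `X i`, `σ = id` -/
theorem tr_one [Finite F] [CharP F 2] {p0 : Fr.Adm} (hp0 : p0.c ≠ 0) (hσ : ∀ t, H.σ t = t) :
    TrOn (TL (WittModel.T M) (WittModel.X M) j) (WittModel.X M (sr i)) := by
  intro x hx1 hx2 y hy1 hy2
  obtain ⟨s, rfl⟩ := (mem_X_one hi).1 hx1
  obtain ⟨s', rfl⟩ := (mem_X_one hi).1 hy1
  have hs := X_ne_zero hx2
  have hs' := X_ne_zero hy2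
  obtain ⟨t, ht⟩ : IsSquare (s * s'⁻¹) := FiniteField.isSquare_of_char_two (ringChar.eq F 2) _
  have ht0 : t ≠ 0 := by
    rintro rfl
    rw [mul_zero] at ht
    exact (mul_ne_zero hs (inv_ne_zero hs')) ht
  have hc : (Frame.Adm.smul t p0 : Fr.Adm).c ≠ 0 := by
    rw [Frame.Adm.smul_c, hσ]
    exact mul_ne_zero (mul_ne_zero ht0 ht0) hp0
  refine ⟨M.φ ⟨hz Fr (j, true) (Frame.Adm.smul t p0) p0, hz_mem hA⟩,
    mem_TL hA _ (mono_hz hj hc hp0) (hz_mem_sup hj _ _), ?_⟩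
  refine phi_conj _ _ (M.hX _ _ _) ?_
  rw [hz_on_X hi hj hij hc hp0]
  congr 1
  rw [Frame.Adm.smul_c, hσ, ← ht]
  field_simp

/-- `TrOn`: the torus of the node `i` on `X j`, if the anisotropic part does not occur -/
theorem tr_two (hw : ∀ r : Fr.Adm, r.w = 0) (hN : ∀ l : F, H.σ l = l → ∃ m, m * H.σ m = l) :
    TrOn (TL (WittModel.T M) (WittModel.X M) i) (WittModel.X M (sr j)) := by
  intro x hx1 hx2 y hy1 hy2
  obtain ⟨r, rfl⟩ := (mem_X_two hj).1 hx1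
  obtain ⟨r', rfl⟩ := (mem_X_two hj).1 hy1
  have hr := Z_ne_one hx2
  have hr' := Z_ne_one hy2
  have hc : ∀ r : Fr.Adm, r ≠ 1 → r.c ≠ 0 := fun r hr h => hr (Frame.Adm.ext (hw r) h)
  have hσc : ∀ r : Fr.Adm, H.σ r.c = -(H.ε * r.c) := by
    intro r
    have h1 := r.herm
    rw [hw r, H.zero_left, neg_zero] at h1
    exact eq_neg_of_add_eq_zero_right h1
  have h4 := H.ε_ne
  have h5 := hc r hr
  have h6 := hc r' hr'
  obtain ⟨m, hm⟩ := hN (r.c * r'.c⁻¹) (by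
    rw [map_mul, map_inv₀, hσc, hσc]
    field_simp)
  have hm0 : m ≠ 0 := by
    rintro rfl
    rw [zero_mul] at hm
    exact mul_ne_zero h5 (inv_ne_zero h6) hm.symm
  have hσm0 : H.σ m ≠ 0 := by simpa using hm0
  refine ⟨M.φ ⟨hx Fr (i, true) (nx i) m, hx_mem hA⟩, mem_TL hA _ (mono_hx hi hm0) (hx_mem_sup hi _), ?_⟩
  refine phi_conj _ _ (M.hZ _ _) ?_
  rw [hx_on_Z hi hj hij hm0]
  congr 1
  apply Frame.Adm.ext
  · rw [hw, hw]
  · rw [Frame.Adm.smul_c, map_inv₀, H.σσ]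
    have h7 : (H.σ m)⁻¹ * m⁻¹ = (r.c * r'.c⁻¹)⁻¹ := by rw [← hm, mul_inv, mul_comm]
    rw [h7]
    field_simp

/-- the own torus of the last node, if the anisotropic part does not occur -/
theorem own_two [Finite F] [CharP F 2] {p0 : Fr.Adm} (hp0 : p0.c ≠ 0) (hw : ∀ r : Fr.Adm, r.w = 0)
    (hN : ∀ l : F, H.σ l = l → ∃ m, m * H.σ m = l) :
    TrOn (TL (WittModel.T M) (WittModel.X M) j) (WittModel.X M (sr j)) := by
  intro x hx1 hx2 y hy1 hy2
  obtain ⟨r, rfl⟩ := (mem_X_two hj).1 hx1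
  obtain ⟨r', rfl⟩ := (mem_X_two hj).1 hy1
  have hr := Z_ne_one hx2
  have hr' := Z_ne_one hy2
  have hc : ∀ r : Fr.Adm, r ≠ 1 → r.c ≠ 0 := fun r hr h => hr (Frame.Adm.ext (hw r) h)
  have hσc : ∀ r : Fr.Adm, H.σ r.c = -(H.ε * r.c) := by
    intro r
    have h1 := r.herm
    rw [hw r, H.zero_left, neg_zero] at h1
    exact eq_neg_of_add_eq_zero_right h1
  have h4 := H.ε_ne
  have h5 := hc r hr
  have h6 := hc r' hr'
  obtain ⟨l, hl⟩ : IsSquare (r'.c * r.c⁻¹) := FiniteField.isSquare_of_char_two (ringChar.eq F 2) _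
  have hσl : H.σ l = l := by
    have h7 : H.σ l * H.σ l = l * l := by
      rw [← map_mul, ← hl, map_mul, map_inv₀, hσc, hσc]
      field_simp
    have h8 : (H.σ l - l) * (H.σ l - l) = 0 := by
      have : (2 : F) = 0 := CharTwo.two_eq_zero
      linear_combination h7 + (l * l - H.σ l * l) * this
    exact sub_eq_zero.1 (mul_self_eq_zero.1 h8)
  obtain ⟨m, hm⟩ := hN l hσl
  have hl0 : l ≠ 0 := by
    rintro rfl
    rw [mul_zero] at hl
    exact mul_ne_zero h6 (inv_ne_zero h5) hl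
  have hm0 : m ≠ 0 := by
    rintro rfl
    rw [zero_mul] at hm
    exact hl0 hm.symm
  have hσm0 : H.σ m ≠ 0 := by simpa using hm0
  have hcc : (Frame.Adm.smul m p0 : Fr.Adm).c ≠ 0 := mul_ne_zero (mul_ne_zero hm0 hσm0) hp0
  refine ⟨M.φ ⟨hz Fr (j, true) (Frame.Adm.smul m p0) p0, hz_mem hA⟩,
    mem_TL hA _ (mono_hz hj hcc hp0) (hz_mem_sup hj _ _), ?_⟩
  refine phi_conj _ _ (M.hZ _ _) ?_
  rw [hz_on_Z hi hj hij hm0 hp0, hm]
  congr 1
  apply Frame.Adm.ext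
  · rw [hw, hw]
  · rw [Frame.Adm.smul_c, hσl, ← hl]
    field_simp

end facts

end Cfsg.Agent.Omega.Lie.End.KWittRow

end

section


/-!
# The groups modelled on a Witt frame, characteristic two: separation, diagram, torus

* `exists_t`: a fixed scalar different from 0 and 1; `sp2_of`: the separating torus element;
* `B_eq_four`, `B_ne_six`; `tor_comm`: the torus is abelian if the anisotropic part has dimension at most one.
-/

set_option autoImplicit false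
set_option linter.unusedSectionVars false

namespace Cfsg.Agent.Omega.Lie.End.KWittFour

open CoxeterSystem Cfsg.Agent.ChevalleyStructure.CoxeterGeom Cfsg.Agent.Tits.Roots Cfsg.Agent.Nodes.TypeC
open Cfsg.Agent.Nodes.Comb Cfsg.Agent.Nodes.Reps Cfsg.Agent.Nodes.WittRoot Cfsg.Agent.Nodes.BNOf
open Cfsg.Agent.Nodes Cfsg.Agent.Nodes.WittAll
open Cfsg.Agent.Nodes.WittRGD (Tor mem_Tor mono_nX mono_nZ nn b_ne_zero rg_sr rg_neg_sr)
open Cfsg.Agent.TitsThree Cfsg.Agent.TitsThree.Siegel Cfsg.Agent.TitsThree.WittFrame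
  Cfsg.Agent.TitsThree.WittWeyl Cfsg.Agent.TitsThree.FrameCN
open Cfsg.Agent.Omega.Lie.End.KWitt Cfsg.Agent.Omega.Lie.End.KWittRow

variable {F : Type*} [Field F] {V : Type*} [AddCommGroup V] [Module F V] {H : HForm F V} {n : ℕ}
  {Fr : Frame H (Fin n)} {K : Type*} [Group K] {M : Model Fr K}

theorem card_le_two {G : Type*} [Group G] [Finite G] {S : Subgroup G} {a b : G} (h : ∀ x ∈ S, x = a ∨ x = b) :
    Nat.card ↥S ≤ 2 := by
  have h1 : (S : Set G) ⊆ {a, b} := fun x hx => by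
    rcases h x hx with rfl | rfl <;> simp
  have h2 := Set.ncard_le_ncard h1 (Set.toFinite _)
  have h3 := Set.ncard_insert_le a ({b} : Set G)
  rw [Set.ncard_singleton] at h3
  have h4 : (S : Set G).ncard = Nat.card ↥S := rfl
  omega

/-- there is a fixed scalar different from 0, 1 -/
theorem exists_t [Finite K] {i j : Fin n} (hi : (i : ℕ) + 1 < n) (hj : ¬ (j : ℕ) + 1 < n)
    {p0 : Fr.Adm} (hp0 : p0.c ≠ 0) (hor : (∀ t, H.σ t = t) ∨ ∀ r : Fr.Adm, r.w = 0)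
    (h4 : ∀ k, 4 ≤ Nat.card ↥(WittModel.X M (sr k))) : ∃ t : F, t ≠ 0 ∧ t ≠ 1 ∧ H.σ t = t := by
  by_contra hcon
  push Not at hcon
  rcases hor with hσ | hw
  · have h5 := h4 i
    have h6 : Nat.card ↥(WittModel.X M (sr i)) ≤ 2 := by
      refine card_le_two (a := 1) (b := M.φ ⟨Fr.X (i, true) (nx i) 1, M.hX _ _ _⟩) fun x hx => ?_
      obtain ⟨s, rfl⟩ := (mem_X_one hi).1 hx
      by_cases hs : s = 0
      · exact Or.inl (X_eq_one hs)
      · by_cases hs1 : s = 1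
        · subst hs1
          exact Or.inr rfl
        · exact absurd (hσ s) (hcon s hs hs1)
    omega
  · have h5 := h4 j
    have hσc : ∀ r : Fr.Adm, H.σ r.c = -(H.ε * r.c) := by
      intro r
      have h1 := r.herm
      rw [hw r, H.zero_left, neg_zero] at h1
      exact eq_neg_of_add_eq_zero_right h1
    have h6 : Nat.card ↥(WittModel.X M (sr j)) ≤ 2 := by
      refine card_le_two (a := 1) (b := M.φ ⟨Fr.Z (j, true) p0, M.hZ _ _⟩) fun x hx => ?_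
      obtain ⟨r, rfl⟩ := (mem_X_two hj).1 hx
      by_cases hr : r.c = 0
      · exact Or.inl (Z_eq_one (Frame.Adm.ext (hw r) hr))
      · right
        have h7 : H.σ (r.c * p0.c⁻¹) = r.c * p0.c⁻¹ := by
          have := H.ε_ne
          rw [map_mul, map_inv₀, hσc, hσc]
          field_simp
        have h8 : r.c * p0.c⁻¹ = 1 := by
          by_contra hne
          exact hcon _ (mul_ne_zero hr (inv_ne_zero hp0)) hne h7
        have h9 : r = p0 := Frame.Adm.ext (by rw [hw, hw]) (by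
          rw [mul_inv_eq_one₀ hp0] at h8
          exact h8)
        rw [h9]
    omega

theorem B_eq_four {i j : Fin n} (h : CoxeterMatrix.B n i j = 4) :
    ((i : ℕ) + 1 = j ∧ (i : ℕ) + 1 < n ∧ ¬ (j : ℕ) + 1 < n) ∨
      ((j : ℕ) + 1 = i ∧ (j : ℕ) + 1 < n ∧ ¬ (i : ℕ) + 1 < n) := by
  by_cases h1 : i = j
  · subst h1
    rw [CoxeterMatrix.diagonal] at h
    norm_num at h
  · have h2 : CoxeterMatrix.B n i j = if (i : ℕ) = n - 1 ∧ (j : ℕ) = n - 2 ∨ (j : ℕ) = n - 1 ∧ (i : ℕ) = n - 2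
        then 4 else (if (j : ℕ) + 1 = i ∨ (i : ℕ) + 1 = j then 3 else 2) := by
      show (if i = j then 1 else _) = _
      rw [if_neg h1]
    rw [h2] at h
    have hi := i.2
    have hj := j.2
    have h3 : (i : ℕ) ≠ j := fun h => h1 (Fin.ext h)
    split_ifs at h with h4 h5
    · rcases h4 with ⟨h5, h6⟩ | ⟨h5, h6⟩
      · right; omega
      · left; omega
    · norm_num at h
    · norm_num at h

theorem B_ne_six {i j : Fin n} : CoxeterMatrix.B n i j ≠ 6 := by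
  intro h
  by_cases h1 : i = j
  · subst h1
    rw [CoxeterMatrix.diagonal] at h
    norm_num at h
  · have h2 : CoxeterMatrix.B n i j = if (i : ℕ) = n - 1 ∧ (j : ℕ) = n - 2 ∨ (j : ℕ) = n - 1 ∧ (i : ℕ) = n - 2
        then 4 else (if (j : ℕ) + 1 = i ∨ (i : ℕ) + 1 = j then 3 else 2) := by
      show (if i = j then 1 else _) = _
      rw [if_neg h1]
    rw [h2] at h
    split_ifs at h <;> norm_num at h

/-- the separating torus element of the last two nodes -/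
theorem sp2_of [Finite K] [CharP F 2] (hA : AmbT Fr 2 M.I) {p0 : Fr.Adm} (hp0 : p0.c ≠ 0)
    (hor : (∀ t, H.σ t = t) ∨ ∀ r : Fr.Adm, r.w = 0) (h4 : ∀ k, 4 ≤ Nat.card ↥(WittModel.X M (sr k)))
    {i j : Fin n} (h : CoxeterMatrix.B n i j = 4) :
    SpOn (WittModel.T M) (WittModel.X M (sr i)) (WittModel.X M (sr j)) ∨
      SpOn (WittModel.T M) (WittModel.X M (sr j)) (WittModel.X M (sr i)) := by
  rcases B_eq_four h with ⟨hij, hi, hj⟩ | ⟨hij, hi, hj⟩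
  · obtain ⟨t, ht0, ht1, hσt⟩ := exists_t hi hj hp0 hor h4
    exact Or.inl (sp_one hA hi hj hij hp0 ht0 ht1 hσt)
  · obtain ⟨t, ht0, ht1, hσt⟩ := exists_t hi hj hp0 hor h4
    exact Or.inr (sp_one hA hi hj hij hp0 ht0 ht1 hσt)

/-! ### the torus -/

/-- an element fixing the frame and the anisotropic part -/
theorem eq_one_of_fix {G0 : Subgroup (V ≃ₗ[F] V)} {p : ℕ} (hA : AmbT Fr p G0) {g : V ≃ₗ[F] V}
    (hb : ∀ x, g (Fr.b x) = Fr.b x) (h0 : ∀ w ∈ Fr.V0, g w = w) : g = 1 := by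
  ext v
  set u : V := ∑ x, (H.h v (Fr.b (neg x)) * (Fr.η (neg x))⁻¹) • Fr.b x with hu
  have h1 : v - u ∈ Fr.V0 := by
    apply hA.V0
    intro y
    rw [H.sub_left, sub_eq_zero]
    have h2 : H.h u (Fr.b y) = ∑ x, (H.h v (Fr.b (neg x)) * (Fr.η (neg x))⁻¹) * H.h (Fr.b x) (Fr.b y) := by
      rw [hu]
      have : ∀ (s : Finset (Fin n × Bool)) (f : Fin n × Bool → F), H.h (∑ x ∈ s, f x • Fr.b x) (Fr.b y) =
          ∑ x ∈ s, f x * H.h (Fr.b x) (Fr.b y) := by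
        intro s f
        induction s using Finset.induction_on with
        | empty => simp [H.zero_left]
        | insert a s ha ih => rw [Finset.sum_insert ha, Finset.sum_insert ha, H.add_left, H.smul_left, ih]
      exact this _ _
    rw [h2, Finset.sum_eq_single (neg y)]
    · rw [WittFrame.neg_neg, Fr.hb_neg_self]
      have := Fr.η_ne y
      field_simp
    · intro x _ hx
      rw [Fr.hb_ne, mul_zero]
      rintro rfl
      exact hx (WittFrame.neg_neg x).symm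
    · intro h; exact absurd (Finset.mem_univ _) h
  have h2 : g u = u := by
    rw [hu, map_sum]
    exact Finset.sum_congr rfl fun x _ => by rw [map_smul, hb]
  have h3 : v = (v - u) + u := by abel
  show g v = v
  rw [h3, map_add, h0 _ h1, h2]

/-- the torus is abelian if the anisotropic part has dimension at most one -/
theorem tor_comm {G0 : Subgroup (V ≃ₗ[F] V)} {p : ℕ} (hA : AmbT Fr p G0)
    (hd : ∃ w0 : V, ∀ w ∈ Fr.V0, ∃ a : F, w = a • w0) {s t : V ≃ₗ[F] V} (hs : s ∈ Tor Fr G0) (ht : t ∈ Tor Fr G0) :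
    s * t = t * s := by
  obtain ⟨w0, hw0⟩ := hd
  have hV0 : ∀ g ∈ Tor Fr G0, ∀ w ∈ Fr.V0, g w ∈ Fr.V0 := fun g hg w hw =>
    hA.map_V0 hg.1 hg.2 (ρ := id) (fun _ => rfl) hw
  -- scalars on `V0`
  have hsc : ∀ g ∈ Tor Fr G0, ∀ w ∈ Fr.V0, ∃ a : F, g w = a • w := by
    intro g hg w hw
    obtain ⟨a, ha⟩ := hw0 w hw
    obtain ⟨b, hb⟩ := hw0 (g w) (hV0 g hg w hw)
    by_cases h0 : a = 0
    · refine ⟨0, ?_⟩
      rw [ha, h0, zero_smul, map_zero, smul_zero]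
    · refine ⟨b * a⁻¹, ?_⟩
      rw [hb, ha, smul_smul, mul_assoc, inv_mul_cancel₀ h0, mul_one]
  have hcomm : ∀ (v : V) (l m : F), s v = l • v → t v = m • v → s (t v) = t (s v) := by
    intro v l m h1 h2
    rw [h2, h1, map_smul, map_smul, h1, h2, smul_smul, smul_smul, mul_comm]
  have h1 : (t * s)⁻¹ * (s * t) = 1 := by
    refine eq_one_of_fix hA (fun x => ?_) fun w hw => ?_
    · obtain ⟨l, -, hl⟩ := hs.2 x
      obtain ⟨m, -, hm⟩ := ht.2 x
      have h2 : (t * s) (Fr.b x) = (s * t) (Fr.b x) := (hcomm _ l m hl hm).symm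
      rw [mul_apply', ← h2, ← mul_apply', inv_mul_cancel]
      rfl
    · obtain ⟨l, hl⟩ := hsc s hs w hw
      obtain ⟨m, hm⟩ := hsc t ht w hw
      have h2 : (t * s) w = (s * t) w := (hcomm _ l m hl hm).symm
      rw [mul_apply', ← h2, ← mul_apply', inv_mul_cancel]
      rfl
  exact (inv_mul_eq_one.1 h1).symm

/-- the torus of a model is abelian if the anisotropic part has dimension at most one -/
theorem ab_model {p : ℕ} (hA : AmbT Fr p M.I) (hd : ∃ w0 : V, ∀ w ∈ Fr.V0, ∃ a : F, w = a • w0) :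
    ∀ s ∈ WittModel.T M, ∀ t ∈ WittModel.T M, s * t = t * s := by
  rintro _ ⟨s, hs, rfl⟩ _ ⟨t, ht, rfl⟩
  rw [← map_mul, ← map_mul]
  congr 1
  apply Subtype.ext
  exact tor_comm hA hd (Subgroup.mem_subgroupOf.1 hs) (Subgroup.mem_subgroupOf.1 ht)

/-- the exponent of the last root group is not 2 if `h(w, w) ≠ 0` occurs -/
theorem false_of_exp {j : Fin n} (hj : ¬ (j : ℕ) + 1 < n) [CharP F 2] (hp : ∃ p : Fr.Adm, H.h p.w p.w ≠ 0)
    (h2 : ∀ x ∈ WittModel.X M (sr j), x * x = 1) : False := by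
  obtain ⟨p, hp⟩ := hp
  have h3 := h2 _ ((mem_X_two hj).2 ⟨p, rfl⟩)
  have h4 : M.φ ⟨Fr.Z (j, true) (p * p), M.hZ _ _⟩ = 1 := by
    rw [← h3, ← map_mul]
    congr 1
    exact Subtype.ext (Fr.Z_mul _ _ _)
  have h5 := congrArg Frame.Adm.c (inj_Z M h4)
  rw [Frame.Adm.mul_c, Frame.Adm.one_c] at h5
  have h6 : (2 : F) = 0 := CharTwo.two_eq_zero
  have h7 : H.ε⁻¹ * H.h p.w p.w = 0 := by linear_combination p.c * h6 - h5
  rcases mul_eq_zero.1 h7 with h8 | h8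
  · exact inv_ne_zero H.ε_ne h8
  · exact hp h8

end Cfsg.Agent.Omega.Lie.End.KWittFour

end

section


/-!
# The rows `PSU_n(q)`, `n ≥ 4`, `PSp_2m(q)`, `m ≥ 2`, `PΩ⁻_{2m+2}(q)`, `m ≥ 2`, of `KTable`
-/

set_option autoImplicit false
set_option linter.unusedSectionVars false

namespace Cfsg.Agent.Omega.Lie.End.RowWitt

open Cfsg CoxeterSystem Cfsg.Agent.ChevalleyStructure.CoxeterGeom Cfsg.Agent.Tits.Roots Cfsg.Agent.Nodes.TypeC
open Cfsg.Agent.Nodes.Comb Cfsg.Agent.Nodes.Reps Cfsg.Agent.Nodes.WittRoot Cfsg.Agent.Nodes.BNOf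
open Cfsg.Agent.Nodes Cfsg.Agent.Nodes.WittAll Cfsg.Agent.Nodes.WittU
open Cfsg.Agent.TitsThree Cfsg.Agent.TitsThree.Siegel Cfsg.Agent.TitsThree.SiegelGen Cfsg.Agent.TitsThree.WittFrame
  Cfsg.Agent.TitsThree.WBridge Cfsg.Agent.TitsThree.WittWeyl Cfsg.Agent.TitsThree.FrameCN
open Cfsg.Agent.Omega.Lie.End.KWittRow Cfsg.Agent.Omega.Lie.End.KWittFour

/-! ### the general row -/

section gen

variable {F : Type*} [Field F] {V : Type*} [AddCommGroup V] [Module F V] {H : HForm F V} {n : ℕ}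
  {Fr : Frame H (Fin n)} {K : Type*} [Group K] (M : Model Fr K)

/-- **the row of a model over a Witt frame** -/
theorem hasRow_model [Finite V] [Finite K] [CharP F 2] (hA : AmbT Fr 2 M.I) (hn : 2 ≤ n) {p0 : Fr.Adm}
    (hp0 : p0.c ≠ 0) (ab : ∀ s ∈ WittModel.T M, ∀ t ∈ WittModel.T M, s * t = t * s)
    (hor : ((∀ t, H.σ t = t) ∨ ∀ r : Fr.Adm, r.w = 0) ∨ ∃ p : Fr.Adm, H.h p.w p.w ≠ 0) : HasRow K := by
  have : Fact (Nat.Prime 2) := ⟨Nat.prime_two⟩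
  have hfin : Finite (CoxeterMatrix.B n).Group := finite_W (CoxeterMatrix.B n).toCoxeterSystem
  have R := rgdC_model M hA hp0 (CoxeterMatrix.B n).toCoxeterSystem
  refine ⟨n, CoxeterMatrix.B n, A n, isCartan n, _, _, _, hfin, R, WittModel.G1_eq_top M (by omega) _, ?_⟩
  refine
    { two := ⟨⟨0, by omega⟩, ⟨1, by omega⟩, by simp [Fin.ext_iff]⟩
      conn := fun J hJ hJ' => KFacts.SysSp.conn_B n J hJ hJ'
      ab := ab
      tr := fun h4 hsq i => KTrFree.trNode R ab (h4 i) (hsq i)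
      sp2 := ?_
      six := fun i j h => absurd h B_ne_six }
  intro h4 hsq i j hij _
  rcases hor with hor | hp
  · exact sp2_of hA hp0 hor h4 hij
  · exact (false_of_exp (j := ⟨n - 1, by omega⟩) (by simp; omega) hp (hsq _)).elim

/-- the dimension of the anisotropic part -/
theorem finrank_V0 [FiniteDimensional F V] : Module.finrank F ↥Fr.V0 + 2 * n ≤ Module.finrank F V := by
  let L : V →ₗ[F] (Fin n × Bool → F) :=
    { toFun := fun v x => H.h v (Fr.b x)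
      map_add' := fun v w => by
        funext x
        exact H.add_left _ _ _
      map_smul' := fun c v => by
        funext x
        exact H.smul_left _ _ _ }
  have hL : ∀ v x, L v x = H.h v (Fr.b x) := fun v x => rfl
  have hsurj : Function.Surjective L := by
    intro φ
    refine ⟨∑ x, (φ x * (Fr.η x)⁻¹) • Fr.b (neg x), ?_⟩
    funext y
    rw [map_sum, Finset.sum_apply, Finset.sum_eq_single y]
    · rw [map_smul, Pi.smul_apply, hL, Fr.hb_neg_self, smul_eq_mul]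
      have := Fr.η_ne y
      field_simp
    · intro x _ hx
      rw [map_smul, Pi.smul_apply, hL, Fr.hb_ne, smul_zero]
      intro h
      apply hx
      rw [h, WittFrame.neg_neg]
    · intro h
      exact absurd (Finset.mem_univ _) h
  have h1 := LinearMap.finrank_range_add_finrank_ker L
  rw [LinearMap.range_eq_top.2 hsurj, finrank_top, Module.finrank_fintype_fun_eq_card, Fintype.card_prod,
    Fintype.card_fin, Fintype.card_bool] at h1
  have h2 : Fr.V0 ≤ LinearMap.ker L := by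
    intro w hw
    rw [LinearMap.mem_ker]
    funext x
    exact Fr.h0' x hw
  have h3 := Submodule.finrank_mono h2
  omega

end gen

/-! ### unitary groups -/

section Unitary

open Cfsg.Agent.TitsThree.KSideU Cfsg.Agent.TitsThree.KSideUDesc

variable {F : Type*} [Field F] [Fintype F] {q N : ℕ} (hF : Fintype.card F = q ^ 2)

include hF in
theorem hasRow_PSU (hN : 4 ≤ N) [CharP F 2] : HasRow (PSU N F q) := by
  have : Fact (Nat.Prime 2) := ⟨Nat.prime_two⟩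
  obtain ⟨m, hm⟩ : ∃ m, N = 2 * m ∨ N = 2 * m + 1 := ⟨N / 2, by omega⟩
  obtain ⟨W, -⟩ := exists_wframe hF hm
  obtain ⟨p0, hp0, -⟩ := exists_adm hF W
  have hA : AmbT (toFrame W) 2 (KInstU.model hF (by omega : 3 ≤ N) W).I := AmbT.of_amb (amb_U hF W) 2
  have hdim := finrank_V0 (Fr := toFrame W)
  rw [Module.finrank_fintype_fun_eq_card, Fintype.card_fin] at hdim
  have hV0 : (toFrame W).V0 = W.V0 := rfl
  refine hasRow_model (KInstU.model hF (by omega) W) hA (by omega) hp0 (ab_model hA ?_) ?_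
  · have h1 : Module.finrank F ↥(toFrame W).V0 ≤ 1 := by omega
    obtain ⟨v, hv⟩ := finrank_le_one_iff.1 h1
    refine ⟨v.1, fun w hw => ?_⟩
    obtain ⟨c, hc⟩ := hv ⟨w, hw⟩
    exact ⟨c, (congrArg Subtype.val hc).symm⟩
  · rcases hm with hm | hm
    · left; right
      intro r
      have h1 : Module.finrank F ↥(toFrame W).V0 = 0 := by omega
      have h2 : (toFrame W).V0 = ⊥ := Submodule.finrank_eq_zero.1 h1
      have h3 := (toFrame W).ok_mem r.ok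
      rw [h2] at h3
      exact (Submodule.mem_bot F).1 h3
    · right
      -- `V0 ≠ 0`
      have h1 : ∃ w ∈ W.V0, w ≠ 0 := by
        by_contra hcon
        push Not at hcon
        let L : ((Fin m → F) × (Fin m → F)) →ₗ[F] (Fin N → F) :=
          { toFun := fun c => ∑ i, c.1 i • W.e i + ∑ i, c.2 i • W.f i
            map_add' := fun c d => by
              simp only [Prod.fst_add, Prod.snd_add, Pi.add_apply, add_smul, Finset.sum_add_distrib]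
              abel
            map_smul' := fun c d => by
              simp only [Prod.smul_fst, Prod.smul_snd, Pi.smul_apply, smul_eq_mul, mul_smul, RingHom.id_apply,
                smul_add, Finset.smul_sum] }
        have hsurj : Function.Surjective L := by
          intro v
          obtain ⟨a, b, w, hw, e⟩ := W.span v
          refine ⟨(a, b), ?_⟩
          rw [e, hcon w hw, add_zero]
          rfl
        have h2 := LinearMap.finrank_le_finrank_of_surjective hsurj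
        rw [Module.finrank_prod, Module.finrank_fintype_fun_eq_card, Module.finrank_fintype_fun_eq_card,
          Fintype.card_fin, Fintype.card_fin] at h2
        omega
      obtain ⟨w, hw, hw0⟩ := h1
      obtain ⟨c, hc⟩ := (PU hF N).ex w
      refine ⟨⟨w, c, ⟨hw, hc⟩⟩, fun h => hw0 (W.aniso w hw ((sing_iff hF).2 h))⟩

end Unitary

/-! ### symplectic groups -/

section Symplectic

open SpIdent SpGen

theorem hasRow_PSp {F : Type*} [Field F] [Finite F] [CharP F 2] {m : ℕ} (hm : 2 ≤ m) : HasRow (PSp m F) := by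
  have : Fact (Nat.Prime 2) := ⟨Nat.prime_two⟩
  have hA : AmbT (frame m F) 2 (KInstSp.model m F).I := AmbT.of_amb amb_Sp 2
  refine hasRow_model (KInstSp.model m F) hA hm (p0 := SpIdent.adm 1) one_ne_zero
    (ab_model hA ⟨0, fun w hw => ⟨0, ?_⟩⟩) (Or.inl (Or.inl fun t => rfl))
  rw [(Submodule.mem_bot F).1 hw, smul_zero]

end Symplectic

/-! ### orthogonal groups of minus type -/

section Minus

open Cfsg.Agent.LieClassical.OrthForms Cfsg.Agent.TitsThree.KSideO Cfsg.Agent.KFacts.SpecMinus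
  Cfsg.Agent.OddHalf.DblR.MinusTor

theorem hasRow_POmegaMinus {F : Type*} [Field F] [Finite F] [CharP F 2] (a b : F)
    (hab : ∀ z₁ z₂ : F, z₁ ^ 2 + a * z₁ * z₂ + b * z₂ ^ 2 = 0 → z₁ = 0 ∧ z₂ = 0) {m : ℕ} (hm : 2 ≤ m) :
    HasRow (Cfsg.POmega F (Cfsg.quadFormMinus m F a b)) := by
  have : Fact (Nat.Prime 2) := ⟨Nat.prime_two⟩
  have h2 : (2 : F) = 0 := CharTwo.two_eq_zero
  rw [← coe_minusForm]
  have hA := ambT_minus h2 hm a b hab
  obtain ⟨p0, hp0⟩ := adm_minus m a b hab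
  have O := orth_minus h2 m a b hab
  exact hasRow_model (modelMinus hm a b hab) hA hm hp0 (tab_model O (isPlane_minus h2 m a b hab) _ hA)
    (Or.inl (Or.inl O.σ))

end Minus

end Cfsg.Agent.Omega.Lie.End.RowWitt

end

section


/-!
# `TrNode` for a node which is an image of `SL₂(F)`, `|F| ≥ 4` even

`trNode` : `Φ : SL₂(F) →* Y`, `X (sr i) = {Φ (up a)}`, `Φ (wS 1) = n i`, `Φ (hS d) ∈ T`.
-/

set_option autoImplicit false
set_option linter.unusedSectionVars false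

namespace Cfsg.Agent.Omega.Lie.End.TrSL

open CoxeterSystem Cfsg.Agent.ChevalleyStructure.CoxeterGeom Cfsg.Agent.Tits.Roots Cfsg.Agent.Tits.Core
  Cfsg.Agent.Tits.RootComb Cfsg.Agent.Nodes.Comb Cfsg.Agent.Nodes.Reps Cfsg.Agent.Nodes.BNOf
  Cfsg.Agent.Nodes.BNOf.RGD Cfsg.Agent.Nodes.FreeTorus Cfsg.Agent.Nodes.Bruhat
open Cfsg.Agent.Nodes.RGDFoldSL Cfsg.Agent.KFacts.TwESix.NodeCoord
open Cfsg.Agent.ChevalleyStructure
open Cfsg.Agent.ChevalleyStructure.SL2Hom (up lo)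

variable {I W Y : Type*} [Fintype I] [DecidableEq I] [Group W] [Group Y] {M : CoxeterMatrix I}
  {cs : CoxeterSystem M W} {A : I → I → ℤ} {h : IsCartan M A} {p : ℕ} {T : Subgroup Y} {n : I → Y}
  {X : (I → ℤ) → Subgroup Y} {F : Type*} [Field F] {Φ : Matrix.SpecialLinearGroup (Fin 2) F →* Y}

theorem wS_hS {d : F} (hd : d ≠ 0) :
    (wS 1 * hS d * (wS 1)⁻¹ : Matrix.SpecialLinearGroup (Fin 2) F) = (hS d)⁻¹ := by
  rw [mul_inv_eq_iff_eq_mul, eq_inv_mul_iff_mul_eq]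
  apply Subtype.ext
  rw [Matrix.SpecialLinearGroup.coe_mul, Matrix.SpecialLinearGroup.coe_mul, coe_hS hd, coe_wS one_ne_zero]
  ext i j
  fin_cases i <;> fin_cases j
  · simp
  · simp [hd]
  · simp [hd]
  · simp

/-- the image of `SL₂` is the rank one group -/
theorem range_le (R : RGD cs h p T n X) {i : I} (hX : ∀ g, g ∈ X (sr i) ↔ ∃ a, g = Φ (up a))
    (hw : Φ (wS 1) = n i) : Φ.range ≤ X (sr i) ⊔ X (-sr i) := by
  have hup : ∀ a, Φ (up a) ∈ X (sr i) := fun a => (hX _).2 ⟨a, rfl⟩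
  have hlo : ∀ a, Φ (lo a) ∈ X (-sr i) := by
    intro a
    have h3 := R.conj i (sr i) (isRoot_sr cs h i)
    rw [rep_simple_sr] at h3
    rw [← h3, mem_cj, lo_eq, map_mul, map_mul, map_inv, hw]
    have h4 : (n i)⁻¹ * (n i * Φ (up (-a)) * (n i)⁻¹) * n i = Φ (up (-a)) := by group
    rw [h4]
    exact hup _
  rintro _ ⟨g, rfl⟩
  have h2 : Subgroup.closure (Set.range (up (F := F)) ∪ Set.range (lo (F := F))) ≤
      (X (sr i) ⊔ X (-sr i)).comap Φ := by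
    rw [Subgroup.closure_le]
    rintro _ (⟨a, rfl⟩ | ⟨a, rfl⟩)
    · exact Subgroup.mem_sup_left (hup a)
    · exact Subgroup.mem_sup_right (hlo a)
  exact h2 (SL2Hom.mem_closure_SL2 _)

theorem up_sq [CharP F 2] (a : F) : Φ (up a) * Φ (up a) = 1 := by
  rw [← map_mul]
  have h1 : (up a * up a : Matrix.SpecialLinearGroup (Fin 2) F) = 1 := by
    apply Subtype.ext
    rw [Matrix.SpecialLinearGroup.coe_mul]
    show !![1, a; 0, 1] * !![1, a; 0, 1] = 1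
    ext i j
    fin_cases i <;> fin_cases j <;> simp [CharTwo.add_self_eq_zero]
  rw [h1, map_one]

theorem up_zero : (up (0 : F) : Matrix.SpecialLinearGroup (Fin 2) F) = 1 := by
  apply Subtype.ext
  show !![1, (0 : F); 0, 1] = 1
  ext i j
  fin_cases i <;> fin_cases j <;> simp

/-- **The node of an `SL₂(F)`, `|F| ≥ 4` even.** -/
theorem trNode [Finite F] [CharP F 2] (R : RGD cs h p T n X) {i : I} (hX : ∀ g, g ∈ X (sr i) ↔ ∃ a, g = Φ (up a))
    (hinj : ∀ a b, Φ (up a) = Φ (up b) → a = b) (hw : Φ (wS 1) = n i) (hT : ∀ d, d ≠ 0 → Φ (hS d) ∈ T)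
    (h4 : 3 ≤ Nat.card (X (sr i))) : KTorus.TrNode T n X i := by
  have hone : ∀ a, Φ (up a) = 1 ↔ a = 0 := by
    intro a
    constructor
    · intro h1
      apply hinj
      rw [h1, up_zero, map_one]
    · rintro rfl
      rw [up_zero, map_one]
  have hcard : 3 ≤ Nat.card F := by
    have h1 : Nat.card (X (sr i)) ≤ Nat.card F := by
      refine Nat.card_le_card_of_surjective (fun a => (⟨Φ (up a), (hX _).2 ⟨a, rfl⟩⟩ : X (sr i))) ?_
      rintro ⟨g, hg⟩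
      obtain ⟨a, rfl⟩ := (hX g).1 hg
      exact ⟨a, rfl⟩
    exact h4.trans h1
  refine ⟨?_, ?_, ?_⟩
  · obtain ⟨c, hc0, hc1⟩ : ∃ c : F, c ≠ 0 ∧ c ≠ 1 := by
      by_contra hcon
      push Not at hcon
      have h2 : (Set.univ : Set F) ⊆ {0, 1} := by
        intro c _
        by_cases h0 : c = 0
        · exact Or.inl h0
        · exact Or.inr (hcon c h0)
      have h3 := Set.ncard_le_ncard h2 (Set.toFinite _)
      rw [Set.ncard_univ, Set.ncard_pair zero_ne_one] at h3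
      omega
    refine ⟨Φ (up 1), (hX _).2 ⟨1, rfl⟩, Φ (up c), (hX _).2 ⟨c, rfl⟩, ?_, ?_, ?_⟩
    · rw [Ne, hone]; exact one_ne_zero
    · rw [Ne, hone]; exact hc0
    · exact fun h1 => hc1 (hinj _ _ h1).symm
  · intro x hx
    obtain ⟨a, rfl⟩ := (hX x).1 hx
    exact up_sq a
  · intro x hx y hy hx1 hy1
    obtain ⟨a, rfl⟩ := (hX x).1 hx
    obtain ⟨b, rfl⟩ := (hX y).1 hy
    rw [Ne, hone] at hx1 hy1
    obtain ⟨d, hd⟩ : ∃ d : F, d ^ 2 = b / a := by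
      have h1 : Function.Injective (frobenius F 2) := frobenius_inj F 2
      obtain ⟨d, hd⟩ := (Finite.injective_iff_surjective.1 h1) (b / a)
      exact ⟨d, hd⟩
    have hd0 : d ≠ 0 := by
      rintro rfl
      rw [zero_pow two_ne_zero] at hd
      exact div_ne_zero hy1 hx1 hd.symm
    refine ⟨Φ (hS d), ⟨hT d hd0, range_le R hX hw ⟨_, rfl⟩, ?_⟩, ?_⟩
    · rw [← hw, ← map_inv, ← map_mul, ← map_mul, wS_hS hd0, map_inv]
    · rw [← map_inv, ← map_mul, ← map_mul, hS_up hd0, hd, div_mul_cancel₀ _ hx1]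

end Cfsg.Agent.Omega.Lie.End.TrSL

end

end
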